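import Groth.Agent.UnipIsogLib.Prod
import Groth.Agent.GrpSchLib.Component
import Groth.Agent.WittHomLib.Isog
import Mathlib

/-! Isogenies and maps on rational points. -/

set_option autoImplicit false
set_option backward.isDefEq.respectTransparency false
universe u

open CategoryTheory CategoryTheory.Limits AlgebraicGeometry MonObj MonoidalCategory CartesianMonoidalCategory WithConv
open Groth.Agent.WittHomLib Groth.Agent.WittExtLib Groth.Agent.TorusField

noncomputable section

namespace Groth.Agent.UnipIsogLib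

variable {p : ℕ} [hp : Fact p.Prime] {k : Type u} [Field k] [IsAlgClosed k]

local notation "B" => Spec (CommRingCat.of k)

section Generic

variable {X Y : Over (Spec (CommRingCat.of k))}

/-- The closed point under a rational point. -/
def upt (σ : 𝟙_ (Over (Spec (CommRingCat.of k))) ⟶ X) : X.left := σ.left (IsLocalRing.closedPoint k)

theorem upt_comp (σ : 𝟙_ (Over B) ⟶ X) (f : X ⟶ Y) : upt (σ ≫ f) = f.left (upt σ) := rfl

theorem isClosed_upt [LocallyOfFiniteType X.hom] (σ : 𝟙_ (Over B) ⟶ X) : IsClosed {upt σ} :=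
  (pointEquivClosedPoint X.hom ⟨σ.left, Over.w σ⟩).2

theorem upt_injective [LocallyOfFiniteType X.hom] :
    Function.Injective (upt : (𝟙_ (Over B) ⟶ X) → X.left) := fun σ τ h =>
  Over.OverMorphism.ext (congrArg Subtype.val ((pointEquivClosedPoint X.hom).injective
    (a₁ := ⟨σ.left, Over.w σ⟩) (a₂ := ⟨τ.left, Over.w τ⟩) (Subtype.ext h)))

theorem exists_upt [LocallyOfFiniteType X.hom] {z : X.left} (hz : IsClosed {z}) :
    ∃ σ : 𝟙_ (Over B) ⟶ X, upt σ = z :=
  ⟨Over.homMk _ ((pointEquivClosedPoint X.hom).symm ⟨z, hz⟩).2,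
    congrArg Subtype.val ((pointEquivClosedPoint X.hom).apply_symm_apply ⟨z, hz⟩)⟩

theorem hom_ext_upts [Smooth X.hom] [IsSeparated Y.hom] [LocallyOfFiniteType Y.hom] {f g : X ⟶ Y}
    (h : ∀ σ : 𝟙_ (Over B) ⟶ X, σ ≫ f = σ ≫ g) : f = g :=
  hom_ext_pts (p := 2) (hp := ⟨Nat.prime_two⟩) fun τ => by
    haveI : Fact (2 : ℕ).Prime := ⟨Nat.prime_two⟩
    have h1 := congrArg (toUnit (WittGrp.W 2 0 B) ≫ ·) (h (η ≫ τ))
    simpa only [← Category.assoc, toUnit_eta, Category.id_comp] using h1

theorem isMonHom_of_upts [GrpObj X] [GrpObj Y] [Smooth X.hom] [IsSeparated Y.hom] [LocallyOfFiniteType Y.hom]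
    (g : X ⟶ Y) (h : ∀ x y : 𝟙_ (Over B) ⟶ X, (x * y) ≫ g = (x ≫ g) * (y ≫ g)) : IsMonHom g :=
  haveI : Fact (2 : ℕ).Prime := ⟨Nat.prime_two⟩
  isMonHom_of_pts (p := 2) g fun x y => by
    have h1 := congrArg (toUnit (WittGrp.W 2 0 B) ≫ ·) (h (η ≫ x) (η ≫ y))
    simpa only [MonObj.comp_mul, ← Category.assoc, toUnit_eta, Category.id_comp] using h1

variable [GrpObj X] [GrpObj Y] [IsAffineHom X.hom] [IsAffineHom Y.hom] [LocallyOfFiniteType X.hom]
  [LocallyOfFiniteType Y.hom] (f : X ⟶ Y)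

theorem isIsogeny_of_upts (hs : ∀ y : 𝟙_ (Over B) ⟶ Y, ∃ x : 𝟙_ (Over B) ⟶ X, x ≫ f = y)
    (hfin : {x : 𝟙_ (Over B) ⟶ X | x ≫ f = 1}.Finite) : SGA7.IsIsogenyOver f := by
  haveI : IsAffine Y.left := isAffine_of_isAffineHom Y.hom
  haveI : IsLocallyNoetherian Y.left := LocallyOfFiniteType.isLocallyNoetherian Y.hom
  haveI : LocallyOfFiniteType (f.left ≫ Y.hom) := by rw [Over.w]; infer_instance
  haveI : LocallyOfFiniteType f.left := locallyOfFiniteType_of_comp f.left Y.hom
  haveI : LocallyOfFinitePresentation f.left := LocallyOfFinitePresentation.iff_locallyOfFiniteType.mpr inferInstance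
  haveI : IsAffineHom (f.left ≫ Y.hom) := by rw [Over.w]; infer_instance
  haveI : IsAffineHom f.left := IsAffineHom.of_comp f.left Y.hom
  haveI := LocallyOfFiniteType.jacobsonSpace Y.hom
  refine ⟨?_, fun N i hk => ?_⟩
  · have himg := f.left.isConstructible_image (Topology.IsConstructible.univ (X := ↥X.left))
    have hsub := ((Groth.Agent.S7549.result (X := ↥Y.left)).2.2.1 _ _
      Topology.IsConstructible.univ himg).1 (by
        rintro ⟨y, hy⟩ -
        obtain ⟨σ, rfl⟩ := exists_upt hy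
        obtain ⟨x, rfl⟩ := hs σ
        exact ⟨upt x, trivial, (upt_comp x f).symm⟩)
    exact ⟨fun y => let ⟨z, _, hz⟩ := hsub (Set.mem_univ y); ⟨z, hz⟩⟩
  · haveI : IsClosedImmersion i.left :=
      MorphismProperty.of_isPullback (P := @IsClosedImmersion) (hk.map (Over.forget B)).flip
        GrpSchLib.isClosedImmersion_unit
    haveI : LocallyOfFiniteType N.hom := by rw [← Over.w i]; infer_instance
    haveI : IsAffineHom N.hom := by rw [← Over.w i]; infer_instance
    haveI := LocallyOfFiniteType.jacobsonSpace N.hom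
    have hfin' : (closedPoints N.left).Finite := by
      refine Set.Finite.of_finite_image (f := fun z => i.left z) ((hfin.image upt).subset ?_)
        (i.left.isClosedEmbedding.injective.injOn)
      rintro _ ⟨z, hz, rfl⟩
      obtain ⟨σ, rfl⟩ := exists_upt hz
      refine ⟨σ ≫ i, ?_, upt_comp σ i⟩
      rw [Set.mem_setOf_eq, Category.assoc, hk.w, ← Category.assoc, toUnit_unique (σ ≫ toUnit N) (toUnit _),
        ← Hom.one_def]
    haveI : Finite N.left := by
      refine Set.finite_univ_iff.mp ?_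
      rw [← closure_closedPoints]
      have hcl : IsClosed (closedPoints N.left) := by
        have := hfin'.isClosed_biUnion (f := fun z => ({z} : Set N.left)) fun z hz => hz
        rwa [Set.biUnion_of_singleton] at this
      rw [hcl.closure_eq]
      exact hfin'
    haveI : LocallyQuasiFinite N.hom :=
      locallyQuasiFinite_iff_finite_preimage_singleton.mpr fun x => Set.toFinite _
    exact IsFinite.of_locallyQuasiFinite _

variable {f}

theorem surj_upts (h : SGA7.IsIsogenyOver f) (y : 𝟙_ (Over B) ⟶ Y) : ∃ x : 𝟙_ (Over B) ⟶ X, x ≫ f = y := by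
  haveI := LocallyOfFiniteType.jacobsonSpace X.hom
  obtain ⟨z₀, hz₀⟩ := h.1.surj (upt y)
  obtain ⟨z, hz, hzc⟩ := nonempty_inter_closedPoints (Z := f.left ⁻¹' {upt y}) ⟨z₀, hz₀⟩
    ((isClosed_upt y).preimage f.left.continuous).isLocallyClosed
  obtain ⟨x, rfl⟩ := exists_upt hzc
  exact ⟨x, upt_injective hz⟩

theorem finite_upts (h : SGA7.IsIsogenyOver f) : {x : 𝟙_ (Over B) ⟶ X | x ≫ f = 1}.Finite := by
  have sq : AlgGrp.IsKernel (pullback.fst f η[Y]) f := by
    have h := IsPullback.of_hasPullback f η[Y]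
    rwa [toUnit_unique (pullback.snd f η[Y]) (toUnit _)] at h
  haveI := h.2 _ _ sq
  haveI : Finite ↥(pullback f η[Y]).left :=
    Set.finite_univ_iff.mp ((Scheme.Hom.finite_preimage_singleton (pullback f η[Y]).hom
      (IsLocalRing.closedPoint k)).subset fun z _ => Subsingleton.elim (α := PrimeSpectrum k) _ _)
  have hsub : upt '' {x : 𝟙_ (Over B) ⟶ X | x ≫ f = 1} ⊆
      Set.range fun z => (pullback.fst f η[Y]).left z := by
    rintro _ ⟨x, hx, rfl⟩
    exact ⟨upt (pullback.lift x (toUnit _) (hx.trans Hom.one_def)),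
      (upt_comp _ _).symm.trans (congrArg upt (pullback.lift_fst _ _ _))⟩
  exact ((Set.finite_range _).subset hsub).of_finite_image upt_injective.injOn

end Generic

section Affine

variable {A : Type u} [CommRing A] [HopfAlgebra k A] {G : Over (Spec (CommRingCat.of k))} [GrpObj G]
  (e : specGrp k A ≅ Grp.mk G)

omit [IsAlgClosed k] in
theorem pointsEquiv_left (χ : Gpt k A) :
    (pointsEquiv k e χ).left = Spec.map (CommRingCat.ofHom χ.ofConv.toRingHom) ≫ e.hom.hom.hom.left := by
  show (𝟙 _ ≫ Spec.map (CommRingCat.ofHom χ.ofConv.toRingHom)) ≫ e.hom.hom.hom.left = _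
  rw [Category.id_comp]

omit [IsAlgClosed k] in
theorem th_point (χ : Gpt k A) (a : A) :
    th (pointsEquiv k e χ ≫ e.inv.hom.hom) ((Scheme.ΓSpecIso (CommRingCat.of A)).inv a) = χ.ofConv a := by
  have he : e.hom.hom.hom ≫ e.inv.hom.hom = 𝟙 _ := congrArg (fun m => m.hom.hom) e.hom_inv_id
  have h1 : (pointsEquiv k e χ ≫ e.inv.hom.hom).left = Spec.map (CommRingCat.ofHom χ.ofConv.toRingHom) := by
    rw [Over.comp_left, pointsEquiv_left, Category.assoc, ← Over.comp_left, he, Over.id_left]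
    exact Category.comp_id _
  show (Scheme.ΓSpecIso (CommRingCat.of k)).hom ((pointsEquiv k e χ ≫ e.inv.hom.hom).left.appTop _) = _
  rw [h1]
  show ((Scheme.ΓSpecIso (CommRingCat.of A)).inv ≫ (Spec.map (CommRingCat.ofHom χ.ofConv.toRingHom)).appTop ≫
    (Scheme.ΓSpecIso (CommRingCat.of k)).hom) a = _
  rw [← Category.assoc, ← Scheme.ΓSpecIso_inv_naturality, Category.assoc, Iso.inv_hom_id, Category.comp_id]
  rfl

variable {r : ℕ} {nn : Fin r → ℕ} {P : Over (Spec (CommRingCat.of k))}
  {proj : ∀ i : Fin r, P ⟶ WittGrp.W p (nn i) (Spec (CommRingCat.of k))} [GrpObj P] [∀ i, IsMonHom (proj i)]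
  (hP : IsLimit (Fan.mk P proj))

/-- The point with given coordinates. -/
def ofP (x : Pts p k nn) : 𝟙_ (Over (Spec (CommRingCat.of k))) ⟶ P :=
  (Equiv.ofBijective _ (toP_bijective hP)).symm x

omit [IsAlgClosed k] in
theorem toP_ofP (x : Pts p k nn) : toP proj (ofP hP x) = x :=
  (Equiv.ofBijective _ (toP_bijective hP)).apply_symm_apply x

omit [IsAlgClosed k] in
theorem ofP_toP (σ : 𝟙_ (Over B) ⟶ P) : ofP hP (toP proj σ) = σ :=
  (Equiv.ofBijective _ (toP_bijective hP)).symm_apply_apply σ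

omit [IsAlgClosed k] in
theorem ofP_add (x y : Pts p k nn) : ofP hP (x + y) = ofP hP x * ofP hP y :=
  (toP_bijective hP).1 (by rw [toP_mul, toP_ofP, toP_ofP, toP_ofP])

omit [IsAlgClosed k] in
theorem ofP_zero : ofP hP (0 : Pts p k nn) = 1 :=
  (toP_bijective hP).1 (by rw [toP_one, toP_ofP])

include hP e in
/-- A covering on points is an isogeny. -/
theorem exists_isogeny_of_covers [Smooth G.hom] [IsAffine G.left] (g : Pts p k nn → Gpt k A)
    (hadd : ∀ x y, g (x + y) = g x * g y) (hpol : ∀ a, (fun x => (g x).ofConv a) ∈ polFun (cP nn))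
    (hs : Function.Surjective g) (hfin : {x | g x = 1}.Finite) :
    ∃ F : P ⟶ G, IsMonHom F ∧ SGA7.IsIsogenyOver F := by
  haveI : IsSeparated G.hom := GrpSchLib.isSeparated_hom
  haveI : IsAffineHom G.hom := isAffineHom_of_isAffine G.hom
  haveI := smooth_P hP
  haveI := lft_P hP
  haveI := isAffineHom_P hP
  let E : A →ₐ[k] (Pts p k nn → k) := AlgHom.pi fun x => (g x).ofConv
  have hErange : ∀ a, E a ∈ (polEval (p := p) (k := k) nn).range := fun a => by
    obtain ⟨Q, hQ⟩ := exists_poly (hpol a)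
    exact ⟨Q, funext fun x => (polEval_apply Q x).trans (hQ x).symm⟩
  let φ : A →ₐ[k] MvPolynomial (Σ i, Fin (nn i)) k :=
    (AlgEquiv.ofInjective _ (polEval_injective (p := p) (k := k) nn)).symm.toAlgHom.comp (E.codRestrict _ hErange)
  have hφ : ∀ a x, MvPolynomial.eval (fun s => cP nn s x) (φ a) = (g x).ofConv a := fun a x => by
    rw [← polEval_apply]
    exact congrFun (congrArg Subtype.val ((AlgEquiv.ofInjective _ (polEval_injective (p := p) (k := k) nn)).apply_symm_apply
      ((E.codRestrict _ hErange) a))) x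
  let α : A →+* Γ(P.left, ⊤) := (evP proj).comp φ.toRingHom
  have hα : α.comp (algebraMap k A) = ev P := RingHom.ext fun c => by
    show evP proj (φ (algebraMap k A c)) = _
    rw [φ.commutes, MvPolynomial.algebraMap_eq, evP_C]
  let F : P ⟶ G := toAff α hα ≫ e.hom.hom.hom
  have hF : ∀ σ, σ ≫ F = pointsEquiv k e (g (toP proj σ)) := fun σ => by
    refine Over.OverMorphism.ext ?_
    rw [pointsEquiv_left, show σ ≫ F = (σ ≫ toAff α hα) ≫ e.hom.hom.hom from (Category.assoc _ _ _).symm,
      Over.comp_left, comp_toAff]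
    refine congrArg (fun m => Spec.map (CommRingCat.ofHom m) ≫ _) (RingHom.ext fun a => ?_)
    show th σ (evP proj (φ a)) = _
    rw [th_evP]
    exact hφ a _
  haveI hm : IsMonHom F := isMonHom_of_upts F fun x y => by
    rw [hF, hF, hF, toP_mul, hadd, map_mul]
  refine ⟨F, hm, isIsogeny_of_upts F (fun y => ?_) ?_⟩
  · obtain ⟨x, hx⟩ := hs ((pointsEquiv k e).symm y)
    exact ⟨ofP hP x, by rw [hF, toP_ofP, hx, MulEquiv.apply_symm_apply]⟩
  · refine (hfin.image (ofP hP)).subset fun σ hσ => ⟨toP proj σ, ?_, ofP_toP hP σ⟩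
    refine (pointsEquiv k e).injective ?_
    rw [← hF, map_one]
    exact hσ

include hP in
/-- An isogeny from a product of Witt groups, on points. -/
theorem exists_covers_of_isogeny [Smooth G.hom] [IsAffine G.left] (F : P ⟶ G) [IsMonHom F]
    (hF : SGA7.IsIsogenyOver F) :
    ∃ g : Pts p k nn → Gpt k A, (∀ x, g x = (pointsEquiv k e).symm (ofP hP x ≫ F)) ∧
      (∀ x y, g (x + y) = g x * g y) ∧ (∀ a, (fun x => (g x).ofConv a) ∈ polFun (cP nn)) ∧
      Function.Surjective g ∧ {x | g x = 1}.Finite := by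
  haveI : IsAffineHom G.hom := isAffineHom_of_isAffine G.hom
  haveI := lft_P hP
  haveI := isAffineHom_P hP
  let g : Pts p k nn → Gpt k A := fun x => (pointsEquiv k e).symm (ofP hP x ≫ F)
  refine ⟨g, fun x => rfl, fun x y => ?_, fun a => ?_, fun χ => ?_, ?_⟩
  · simp only [g, ofP_add, MonObj.mul_comp, map_mul]
  · obtain ⟨Q, hQ⟩ := (evP_bijective hP).2
      ((F ≫ e.inv.hom.hom).left.appTop ((Scheme.ΓSpecIso (CommRingCat.of A)).inv a))
    have he : (fun x => (g x).ofConv a) = fun x => MvPolynomial.eval (fun s => cP nn s x) Q := funext fun x => by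
      rw [← toP_ofP hP x, ← th_evP, hQ, ← th_comp, ← th_point e (g (toP proj (ofP hP x))) a]
      simp only [g, ofP_toP, MulEquiv.apply_symm_apply, Category.assoc]
    rw [he]
    exact eval_mem Q fun s => coord_mem (cP nn) s
  · obtain ⟨σ, hσ⟩ := surj_upts hF (pointsEquiv k e χ)
    exact ⟨toP proj σ, by simp only [g, ofP_toP, hσ, MulEquiv.symm_apply_apply]⟩
  · refine ((finite_upts hF).image (toP proj)).subset fun x hx => ⟨ofP hP x, ?_, toP_ofP hP x⟩
    exact (EquivLike.injective (pointsEquiv k e).symm) (hx.trans (map_one _).symm)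

end Affine

end Groth.Agent.UnipIsogLib
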