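import Groth.Agent.UnipIsogLib.Setup
import Groth.Agent.S4585
import Mathlib

/-! Commutative unipotent groups are covered by products of Witt groups, on rational points. -/

set_option autoImplicit false
set_option backward.isDefEq.respectTransparency false
universe u

open TensorProduct WithConv
open Groth.Agent.WittExtLib Groth.Agent.HopfFF Groth.Agent.Comodule

noncomputable section

namespace Groth.Agent.UnipIsogLib

variable {k : Type u} [Field k] {A : Type u} [CommRing A] [HopfAlgebra k A]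
  {p : ℕ} [hp : Fact p.Prime]

/-- A map from a product of Witt groups onto the points of a quotient group. -/
structure Covers (B : Subalgebra k A) {r : ℕ} {nn : Fin r → ℕ} (g : Pts p k nn → Gpt k A) : Prop where
  add : ∀ x y, Rel B (g (x + y)) (g x * g y)
  pol : ∀ b ∈ B, (fun x => (g x).ofConv b) ∈ polFun (cP nn)
  surj : ∀ σ, ∃ x, Rel B σ (g x)
  fin : {x | Rel B (g x) 1}.Finite

variable (p) in
/-- A quotient group covered by a product of Witt groups. -/
structure Good (B : Subalgebra k A) : Prop where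
  hopf : IsHopfSub B
  cov : ∃ (r : ℕ) (nn : Fin r → ℕ) (g : Pts p k nn → Gpt k A), Covers B g

theorem rel_zero {B : Subalgebra k A} (hB : IsHopfSub B) {r : ℕ} {nn : Fin r → ℕ} {g : Pts p k nn → Gpt k A}
    (hadd : ∀ x y, Rel B (g (x + y)) (g x * g y)) : Rel B (g 0) 1 :=
  rel_one_of_idem hB (by simpa only [add_zero] using hadd 0 0)

theorem rel_neg {B : Subalgebra k A} (hB : IsHopfSub B) {r : ℕ} {nn : Fin r → ℕ} {g : Pts p k nn → Gpt k A}
    (hadd : ∀ x y, Rel B (g (x + y)) (g x * g y)) (x : Pts p k nn) : Rel B (g (-x) * g x) 1 :=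
  ((hadd (-x) x).symm).trans (by rw [neg_add_cancel]; exact rel_zero hB hadd)

theorem good_bot : Good p (⊥ : Subalgebra k A) := by
  have hrel : ∀ σ τ : Gpt k A, Rel ⊥ σ τ := fun σ τ b hb => by
    obtain ⟨c, rfl⟩ := Algebra.mem_bot.mp hb
    rw [AlgHom.commutes, AlgHom.commutes]
  refine ⟨⟨fun b hb => ?_, fun b hb => ?_⟩, 0, Fin.elim0, fun _ => 1, fun x y => hrel _ _, fun b hb => ?_,
    fun σ => ⟨fun i => i.elim0, hrel _ _⟩, Set.toFinite _⟩
  · obtain ⟨c, rfl⟩ := Algebra.mem_bot.mp hb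
    refine ⟨c • ((1 : (⊥ : Subalgebra k A)) ⊗ₜ 1), ?_⟩
    rw [Algebra.algebraMap_eq_smul_one, map_smul, map_smul]
    simp [Bialgebra.comul_one, Algebra.TensorProduct.one_def]
  · obtain ⟨c, rfl⟩ := Algebra.mem_bot.mp hb
    rw [Algebra.algebraMap_eq_smul_one, map_smul, HopfAlgebra.antipode_one]
    exact Subalgebra.smul_mem _ (one_mem _) c
  · obtain ⟨c, rfl⟩ := Algebra.mem_bot.mp hb
    simpa only [AlgHom.commutes] using const_mem _ _

section Step

variable {B : Subalgebra k A} (hB : IsHopfSub B) {y : A} (hy0 : Coalgebra.counit (R := k) y = 0) {z : B ⊗[k] B}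
  (hz : Coalgebra.comul (R := k) y = y ⊗ₜ[k] (1 : A) + (1 : A) ⊗ₜ[k] y +
      TensorProduct.map B.val.toLinearMap B.val.toLinearMap z)

/-- The cocycle of the new coordinate. -/
abbrev cy (z : B ⊗[k] B) (σ τ : Gpt k A) : k :=
  ev2 σ τ (TensorProduct.map B.val.toLinearMap B.val.toLinearMap z)

include hy0 hz in
theorem mul_y (σ τ : Gpt k A) : (σ * τ).ofConv y = σ.ofConv y + τ.ofConv y + cy z σ τ :=
  counit_of_delta hy0 hz σ τ

include hy0 hz in
theorem cy_one_right (σ : Gpt k A) : cy z σ 1 = 0 := by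
  have h := mul_y hy0 hz σ 1
  rw [mul_one, one_pt_apply, hy0, add_zero] at h
  linear_combination -h

include hy0 hz in
theorem shift_y {ρ : Gpt k A} (hρ : Rel B ρ 1) (τ : Gpt k A) : (τ * ρ).ofConv y = τ.ofConv y + ρ.ofConv y := by
  rw [mul_y hy0 hz, show cy z τ ρ = cy z τ 1 from ev2_congr (Rel.refl τ) hρ z, cy_one_right hy0 hz, add_zero]

include hB in
theorem shift_rel {ρ : Gpt k A} (hρ : Rel B ρ 1) (τ : Gpt k A) : Rel B (τ * ρ) τ := by
  have h := (Rel.refl τ).mul hB hρ
  rwa [mul_one] at h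

theorem cy_pol {r : ℕ} {nn : Fin r → ℕ} {g : Pts p k nn → Gpt k A}
    (hg : ∀ b ∈ B, (fun x => (g x).ofConv b) ∈ polFun (cP nn)) :
    (fun v : Pts p k nn × Pts p k nn => cy z (g v.1) (g v.2)) ∈ polFun (cProd (cP nn) (cP nn)) := by
  simp only [cy]
  induction z with
  | zero => simpa using const_mem _ (0 : k)
  | add a b ha hb => simp only [map_add]; exact add_mem ha hb
  | tmul a b =>
    simp only [TensorProduct.map_tmul, ev2_tmul, AlgHom.toLinearMap_apply, Subalgebra.coe_val]
    exact mul_mem (fst_mem (cP nn) (hg a a.2)) (snd_mem (cP nn) (hg b b.2))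

include hB hy0 hz in
theorem step_core {r : ℕ} {nn : Fin r → ℕ} {g : Pts p k nn → Gpt k A} (hg : Covers B g)
    {r' : ℕ} {nn' : Fin r' → ℕ} (π : Pts p k nn' →+ Pts p k nn) (hπ : IsPolP π) (w : Pts p k nn' → k)
    (hw : w ∈ polFun (cP nn')) (hwadd : ∀ x x', w (x + x') = w x + w x' + cy z (g (π x)) (g (π x')))
    (hlift : ∀ x, ∃ σ : Gpt k A, Rel B σ (g (π x)) ∧ σ.ofConv y = w x) :
    ∃ g' : Pts p k nn' → Gpt k A, (∀ x, Rel B (g' x) (g (π x))) ∧ (∀ x, (g' x).ofConv y = w x) ∧
      (∀ x x', Rel (B ⊔ Algebra.adjoin k {y}) (g' (x + x')) (g' x * g' x')) ∧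
      ∀ b ∈ B ⊔ Algebra.adjoin k {y}, (fun x => (g' x).ofConv b) ∈ polFun (cP nn') := by
  choose g' hgB hgy using hlift
  refine ⟨g', hgB, hgy, fun x x' => rel_sup ?_ ?_, fun b hb => ?_⟩
  · have h1 := hgB (x + x')
    rw [map_add] at h1
    exact (h1.trans (hg.add _ _)).trans (((hgB x).mul hB (hgB x')).symm)
  · rw [hgy, mul_y hy0 hz, hgy, hgy, hwadd,
      show cy z (g' x) (g' x') = cy z (g (π x)) (g (π x')) from ev2_congr (hgB x) (hgB x') z]
  · let E : A →ₐ[k] (Pts p k nn' → k) := AlgHom.pi fun x => (g' x).ofConv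
    have hle : B ⊔ Algebra.adjoin k {y} ≤ (polFun (cP nn')).comap E := by
      refine sup_le (fun b hb => ?_) (Algebra.adjoin_le (Set.singleton_subset_iff.mpr ?_))
      · show (fun x => (g' x).ofConv b) ∈ polFun (cP nn')
        simp only [fun x => hgB x b hb]
        exact hπ.comp_pol (hg.pol b hb)
      · show (fun x => (g' x).ofConv y) ∈ polFun (cP nn')
        simp only [hgy]
        exact hw
    exact hle hb

theorem rcon_mem {B' : Subalgebra k A} (hB' : IsHopfSub B') (ρ : Gpt k A) {b : A} (hb : b ∈ B') :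
    rcon ρ.ofConv.toLinearMap (Coalgebra.comul (R := k) b) ∈ B' ∧
      ∀ σ : Gpt k A, σ.ofConv (rcon ρ.ofConv.toLinearMap (Coalgebra.comul (R := k) b)) = (σ * ρ).ofConv b := by
  refine ⟨?_, fun σ => ?_⟩
  · obtain ⟨w, hw⟩ := hB'.1 b hb
    rw [show Coalgebra.comul (R := k) b = _ from hw.symm]
    clear hw
    induction w with
    | zero => simp
    | add a b ha hb => simp only [map_add]; exact add_mem ha hb
    | tmul a b =>
      simp only [TensorProduct.map_tmul, rcon_tmul]
      exact Subalgebra.smul_mem _ a.2 _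
  · rw [mul_pt_apply]
    generalize Coalgebra.comul (R := k) b = w
    induction w with
    | zero => simp
    | add a b ha hb => simp only [map_add, ha, hb]
    | tmul a b => simp [mul_comm]

variable [IsAlgClosed k] [CharP k p] [IsDomain A] [Algebra.FiniteType k A]

omit [CharP k p] in
theorem eq_zero_of_points {a : A} (h : ∀ σ : Gpt k A, σ.ofConv a = 0) : a = 0 := by
  by_contra ha
  obtain ⟨χ, hχ⟩ := HopfPts.exists_point_ne_zero (k := k) (f := a) fun hn => ha hn.eq_zero
  exact hχ (h (toConv χ))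

/-- The image of a dominant map from an affine space contains a principal open set, on points. -/
theorem exists_open_image {R : Type u} [CommRing R] [IsDomain R] [Algebra k R] {ν : Type}
    [Finite ν] (φ : R →ₐ[k] MvPolynomial ν k) (hφ : Function.Injective φ) :
    ∃ h : R, h ≠ 0 ∧ ∀ χ : R →ₐ[k] k, χ h ≠ 0 → ∃ v : ν → k, ∀ r, χ r = MvPolynomial.eval v (φ r) := by
  letI : Algebra R (MvPolynomial ν k) := φ.toRingHom.toAlgebra
  haveI : IsScalarTower k R (MvPolynomial ν k) := IsScalarTower.of_algebraMap_eq fun c => (φ.commutes c).symm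
  haveI : Algebra.FiniteType R (MvPolynomial ν k) := Algebra.FiniteType.of_restrictScalars_finiteType k R _
  obtain ⟨h, hh0, hh⟩ := Groth.Agent.S4585.exists_basicOpen_subset_range_of_domain
    (R := R) (S := MvPolynomial ν k) hφ
  refine ⟨h, hh0, fun χ hχ => ?_⟩
  have hmax : (RingHom.ker χ).IsMaximal :=
    RingHom.ker_isMaximal_of_surjective χ fun c => ⟨algebraMap k R c, χ.commutes c⟩
  obtain ⟨Q, hQ⟩ := hh ⟨RingHom.ker χ, hmax.isPrime⟩ (fun hm => hχ hm)
  obtain ⟨M, hM, hQM⟩ := Ideal.exists_le_maximal Q.asIdeal Q.2.ne_top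
  have hker : RingHom.ker χ = M.comap (algebraMap R (MvPolynomial ν k)) :=
    hmax.eq_of_le (Ideal.comap_ne_top _ hM.ne_top)
      ((congrArg PrimeSpectrum.asIdeal hQ).symm.le.trans (Ideal.comap_mono hQM))
  haveI : Nontrivial (MvPolynomial ν k ⧸ M) := Ideal.Quotient.nontrivial_iff.mpr hM.ne_top
  haveI : Algebra.FiniteType k (MvPolynomial ν k ⧸ M) :=
    Algebra.FiniteType.of_surjective (Ideal.Quotient.mkₐ k M) Ideal.Quotient.mk_surjective
  obtain ⟨q⟩ := HopfPts.exists_point_of_finiteType (k := k) (MvPolynomial ν k ⧸ M)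
  let χ' : MvPolynomial ν k →ₐ[k] k := q.comp (Ideal.Quotient.mkₐ k M)
  refine ⟨fun s => χ' (MvPolynomial.X s), fun r => ?_⟩
  have heval : χ' = MvPolynomial.aeval fun s => χ' (MvPolynomial.X s) :=
    MvPolynomial.algHom_ext fun s => by rw [MvPolynomial.aeval_X]
  have h1 : r - algebraMap k R (χ r) ∈ RingHom.ker χ := by
    rw [RingHom.mem_ker, map_sub, AlgHom.commutes]
    exact sub_self _
  rw [hker, Ideal.mem_comap] at h1
  have h2 : χ' (φ (r - algebraMap k R (χ r))) = 0 := by
    show q (Ideal.Quotient.mk M (φ _)) = 0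
    rw [Ideal.Quotient.eq_zero_iff_mem.mpr (show φ (r - algebraMap k R (χ r)) ∈ M from h1), map_zero]
  rw [map_sub, map_sub, AlgHom.commutes, AlgHom.commutes, sub_eq_zero] at h2
  exact h2.symm.trans ((DFunLike.congr_fun heval (φ r)).trans (by rw [MvPolynomial.aeval_eq_eval]))

/-- Evaluation of polynomials on the points of a product. -/
def polEval {r : ℕ} (nn : Fin r → ℕ) : MvPolynomial (Σ i, Fin (nn i)) k →ₐ[k] (Pts p k nn → k) :=
  MvPolynomial.aeval (cP nn)

omit [IsAlgClosed k] [CharP k p] in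
theorem polEval_apply {r : ℕ} {nn : Fin r → ℕ} (P : MvPolynomial (Σ i, Fin (nn i)) k) (x : Pts p k nn) :
    polEval nn P x = MvPolynomial.eval (fun s => cP nn s x) P := by
  induction P using MvPolynomial.induction_on with
  | C a => simp [polEval]
  | add P Q hP hQ => simp [hP, hQ]
  | mul_X P s hP =>
    rw [map_mul, map_mul, Pi.mul_apply, hP]
    simp [polEval]

omit [CharP k p] in
theorem polEval_injective {r : ℕ} (nn : Fin r → ℕ) : Function.Injective (polEval (p := p) (k := k) nn) := by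
  intro P Q h
  refine MvPolynomial.funext fun v => ?_
  let x : Pts p k nn := fun i => TruncatedWittVector.mk p fun l => v ⟨i, l⟩
  have hx : (fun s => cP nn s x) = v := funext fun s => by
    simp [cP, x, TruncatedWittVector.coeff_mk]
  rw [← hx, ← polEval_apply, ← polEval_apply, h]

include hB hy0 hz in
theorem good_step_of_finite {r : ℕ} {nn : Fin r → ℕ} {g : Pts p k nn → Gpt k A} (hg : Covers B g)
    (hDfin : {d | ∃ ρ : Gpt k A, Rel B ρ 1 ∧ ρ.ofConv y = d}.Finite)
    {r' : ℕ} {nn' : Fin r' → ℕ} (π : Pts p k nn' →+ Pts p k nn) (hπ : IsPolP π) (hπs : Function.Surjective π)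
    (hπf : {x | π x = 0}.Finite) (w : Pts p k nn' → k) (g' : Pts p k nn' → Gpt k A)
    (hgB : ∀ x, Rel B (g' x) (g (π x))) (hgy : ∀ x, (g' x).ofConv y = w x)
    (hadd : ∀ x x', Rel (B ⊔ Algebra.adjoin k {y}) (g' (x + x')) (g' x * g' x'))
    (hpol : ∀ b ∈ B ⊔ Algebra.adjoin k {y}, (fun x => (g' x).ofConv b) ∈ polFun (cP nn')) :
    Good p (B ⊔ Algebra.adjoin k {y}) := by
  classical
  set B' := B ⊔ Algebra.adjoin k {y} with hB'def
  have hB' : IsHopfSub B' := isHopfSub_adjoin_extend hB hy0 hz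
  have hyB : y ∈ B' := le_sup_right (a := B) (Algebra.subset_adjoin rfl)
  choose rep hrep hrepy using fun d : hDfin.toFinset => (hDfin.mem_toFinset.mp d.2)
  have hcover : ∀ σ : Gpt k A, ∃ (x : Pts p k nn') (d : hDfin.toFinset), Rel B' σ (g' x * rep d) := by
    intro σ
    obtain ⟨v, hv⟩ := hg.surj σ
    obtain ⟨x, rfl⟩ := hπs v
    have hσ : Rel B σ (g' x) := hv.trans (hgB x).symm
    let ρ := ptInv (g' x) * σ
    have hρ : Rel B ρ 1 := hσ.inv_mul hB
    have e : g' x * ρ = σ := by rw [← _root_.mul_assoc, mul_ptInv, one_mul]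
    refine ⟨x, ⟨ρ.ofConv y, hDfin.mem_toFinset.mpr ⟨ρ, hρ, rfl⟩⟩, rel_sup (hσ.trans (shift_rel hB (hrep _) _).symm) ?_⟩
    rw [shift_y hy0 hz (hrep _), hrepy]
    conv_lhs => rw [← e, shift_y hy0 hz hρ]
  have hinj : ∀ b ∈ B', (∀ x, (g' x).ofConv b = 0) → b = 0 := by
    intro b hb hb0
    by_contra hne
    let T : hDfin.toFinset → A := fun d => rcon (ptInv (rep d)).ofConv.toLinearMap (Coalgebra.comul (R := k) b)
    have hT : ∀ d, T d ≠ 0 := fun d h0 => hne (eq_zero_of_points (k := k) fun σ => by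
      have h := (rcon_mem hB' (ptInv (rep d)) hb).2 (σ * rep d)
      rwa [show rcon _ _ = T d from rfl, h0, map_zero, _root_.mul_assoc, mul_ptInv, mul_one, eq_comm] at h)
    refine Finset.prod_ne_zero_iff.mpr (fun d _ => hT d) (eq_zero_of_points (k := k) (a := ∏ d, T d) fun σ => ?_)
    obtain ⟨x, d, hd⟩ := hcover σ
    rw [map_prod]
    refine Finset.prod_eq_zero (Finset.mem_univ d) ?_
    obtain ⟨h1, h2⟩ := rcon_mem hB' (ptInv (rep d)) hb
    rw [hd _ h1, h2, _root_.mul_assoc, mul_ptInv, mul_one, hb0]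
  -- the image contains the non-vanishing locus of one function
  let E : B' →ₐ[k] (Pts p k nn' → k) := (AlgHom.pi fun x => (g' x).ofConv).comp B'.val
  have hErange : ∀ b : B', E b ∈ (polEval (p := p) (k := k) nn').range := fun b => by
    obtain ⟨P, hP⟩ := exists_poly (hpol b b.2)
    exact ⟨P, funext fun x => (polEval_apply P x).trans (hP x).symm⟩
  let φ : B' →ₐ[k] MvPolynomial (Σ i, Fin (nn' i)) k :=
    (AlgEquiv.ofInjective _ (polEval_injective (p := p) (k := k) nn')).symm.toAlgHom.comp (E.codRestrict _ hErange)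
  have hφ : ∀ (b : B') x, MvPolynomial.eval (fun s => cP nn' s x) (φ b) = (g' x).ofConv b := fun b x => by
    rw [← polEval_apply]
    exact congrFun (congrArg Subtype.val ((AlgEquiv.ofInjective _ (polEval_injective (p := p) (k := k) nn')).apply_symm_apply
      ((E.codRestrict _ hErange) b))) x
  have hφinj : Function.Injective φ := by
    rw [injective_iff_map_eq_zero]
    intro b hb
    refine Subtype.ext (hinj b b.2 fun x => ?_)
    rw [← hφ, hb, map_zero]
  obtain ⟨h, hh0, hh⟩ := exists_open_image φ hφinj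
  have hI : ∀ σ : Gpt k A, σ.ofConv (h : A) ≠ 0 → ∃ x, Rel B' σ (g' x) := by
    intro σ hσ
    obtain ⟨v, hv⟩ := hh (σ.ofConv.comp B'.val) hσ
    let x : Pts p k nn' := fun i => TruncatedWittVector.mk p fun l => v ⟨i, l⟩
    have hx : (fun s => cP nn' s x) = v := funext fun s => by simp [cP, x, TruncatedWittVector.coeff_mk]
    refine ⟨x, fun b hb => ?_⟩
    rw [← hφ ⟨b, hb⟩, hx]
    exact hv ⟨b, hb⟩
  have hrepI : ∀ d, ∃ x, Rel B' (rep d) (g' x) := by
    intro d
    obtain ⟨h1, h2⟩ := rcon_mem hB' (rep d) h.2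
    let b := rcon (rep d).ofConv.toLinearMap (Coalgebra.comul (R := k) (h : A))
    have hb : b ≠ 0 := fun hb => hh0 (Subtype.ext (eq_zero_of_points (k := k) fun σ => by
      have h3 := h2 (σ * ptInv (rep d))
      rwa [show rcon _ _ = b from rfl, hb, map_zero, _root_.mul_assoc, ptInv_mul, mul_one, eq_comm] at h3))
    obtain ⟨χ, hχ⟩ := HopfPts.exists_point_ne_zero (k := k) (f := (h : A) * b)
      fun hn => mul_ne_zero (fun h0 => hh0 (Subtype.ext h0)) hb hn.eq_zero
    rw [map_mul, mul_ne_zero_iff] at hχ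
    obtain ⟨x, hx⟩ := hI (toConv χ) hχ.1
    obtain ⟨x', hx'⟩ := hI (toConv χ * rep d) (by rw [← h2]; exact hχ.2)
    refine ⟨-x + x', ?_⟩
    have e1 : Rel B' (g' (-x) * (toConv χ * rep d)) (g' (-x) * g' x') := (Rel.refl _).mul hB' hx'
    have e2 : Rel B' (g' (-x) * (toConv χ * rep d)) (rep d) := by
      rw [← _root_.mul_assoc]
      have e3 := (((Rel.refl (g' (-x))).mul hB' hx).trans (rel_neg hB' hadd x)).mul hB' (Rel.refl (rep d))
      rwa [one_mul] at e3
    exact (e2.symm.trans e1).trans (hadd _ _).symm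
  refine ⟨hB', r', nn', g', hadd, hpol, fun σ => ?_, ?_⟩
  · obtain ⟨x, d, hd⟩ := hcover σ
    obtain ⟨x', hx'⟩ := hrepI d
    exact ⟨x + x', hd.trans (((Rel.refl _).mul hB' hx').trans (hadd _ _).symm)⟩
  · refine (finite_preimage_of_ker π hπf hg.fin).subset fun x hx => ?_
    exact (hgB x).symm.trans fun b hb => hx b (le_sup_left (a := B) hb)

include hB hy0 hz in
theorem good_step (hcomm : ∀ σ τ : Gpt k A, σ * τ = τ * σ) {r : ℕ} {nn : Fin r → ℕ} {g : Pts p k nn → Gpt k A}
    (hg : Covers B g) : Good p (B ⊔ Algebra.adjoin k {y}) := by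
  classical
  set B' := B ⊔ Algebra.adjoin k {y} with hB'def
  have hB' : IsHopfSub B' := isHopfSub_adjoin_extend hB hy0 hz
  have hyB : y ∈ B' := le_sup_right (a := B) (Algebra.subset_adjoin rfl)
  have hc : IsCoc fun x x' : Pts p k nn => cy z (g x) (g x') := by
    refine ⟨fun x => ?_, fun x x' => ?_, fun x x' x'' => ?_⟩
    · rw [show cy z (g x) (g 0) = cy z (g x) 1 from ev2_congr (Rel.refl _) (rel_zero hB hg.add) z,
        cy_one_right hy0 hz]
    · have h := mul_y hy0 hz (g x) (g x')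
      rw [hcomm, mul_y hy0 hz] at h
      linear_combination -h
    · have h := congrArg (fun σ : Gpt k A => σ.ofConv y) (_root_.mul_assoc (g x) (g x') (g x''))
      simp only [mul_y hy0 hz] at h
      rw [show cy z (g x * g x') (g x'') = cy z (g (x + x')) (g x'') from ev2_congr (hg.add x x').symm (Rel.refl _) z,
        show cy z (g x) (g x' * g x'') = cy z (g x) (g (x' + x'')) from ev2_congr (Rel.refl _) (hg.add x' x'').symm z] at h
      linear_combination h
  let D : Set k := {d | ∃ ρ : Gpt k A, Rel B ρ 1 ∧ ρ.ofConv y = d}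
  by_cases hD : D.Finite
  · let Dm : AddSubmonoid k :=
      { carrier := D
        zero_mem' := ⟨1, Rel.refl 1, by rw [one_pt_apply, hy0]⟩
        add_mem' := fun {a b} ⟨ρ, hρ, ha⟩ ⟨ρ', hρ', hb⟩ => ⟨ρ * ρ', (shift_rel hB hρ' ρ).trans hρ, by
          rw [shift_y hy0 hz hρ', ha, hb]⟩ }
    obtain ⟨ψ, hψ, hψ0, hker⟩ := exists_kernel_poly (p := p) hD.toFinset
    have hker' : ∀ a, ψ a = 0 ↔ a ∈ D := fun a => by
      rw [hker, hD.coe_toFinset, show D = (Dm : Set k) from rfl, AddSubmonoid.closure_eq]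
      rfl
    obtain ⟨P, hP⟩ := hψ.exists_poly
    let f : A := Polynomial.aeval y P
    have hf : ∀ σ : Gpt k A, σ.ofConv f = ψ (σ.ofConv y) := fun σ => by
      rw [hP, ← Polynomial.aeval_algHom_apply, Polynomial.coe_aeval_eq_eval]
    have hinv : ∀ σ τ : Gpt k A, Rel B σ τ → σ.ofConv f = τ.ofConv f := by
      intro σ τ h
      have hρ : Rel B (ptInv τ * σ) 1 := h.inv_mul hB
      rw [hf, hf, show σ = τ * (ptInv τ * σ) by rw [← _root_.mul_assoc, mul_ptInv, one_mul], shift_y hy0 hz hρ,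
        hψ.map_add, (hker' _).mpr ⟨_, hρ, rfl⟩, add_zero]
    obtain ⟨N, hfN⟩ : ∃ N, f ^ p ^ N ∈ B := by
      haveI : Algebra.FiniteType k (A ⊗[B] A) := by
        haveI : Algebra.FiniteType k (A ⊗[k] A) := Algebra.FiniteType.trans (S := A) inferInstance inferInstance
        refine Algebra.FiniteType.of_surjective
          (Algebra.TensorProduct.lift (inB₁ B) (inB₂ B) fun _ _ => Commute.all _ _) fun t => ?_
        induction t with
        | zero => exact ⟨0, map_zero _⟩
        | tmul a b => exact ⟨a ⊗ₜ b, by simp [inB₁, inB₂]⟩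
        | add a b ha hb =>
          obtain ⟨a, rfl⟩ := ha
          obtain ⟨b, rfl⟩ := hb
          exact ⟨a + b, map_add _ _ _⟩
      obtain ⟨m, hm⟩ := isNilpotent_of_points (k := k) ((1 : A) ⊗ₜ[B] f - f ⊗ₜ[B] (1 : A)) fun χ => by
        have h : Rel B (toConv (χ.comp (inB₂ B))) (toConv (χ.comp (inB₁ B))) := fun b hb => by
          show χ ((1 : A) ⊗ₜ[B] b) = χ (b ⊗ₜ[B] (1 : A))
          rw [show (1 : A) ⊗ₜ[B] b = b ⊗ₜ[B] (1 : A) by
            have := (TensorProduct.smul_tmul (R := B) (⟨b, hb⟩ : B) (1 : A) (1 : A)).symm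
            simpa [Subalgebra.smul_def] using this]
        rw [map_sub, sub_eq_zero]
        exact hinv _ _ h
      obtain ⟨N, hN⟩ : ∃ N, m ≤ p ^ N := ⟨m, (Nat.lt_pow_self hp.out.one_lt).le⟩
      refine ⟨N, mem_of_tmul_eq hB ?_⟩
      rcases subsingleton_or_nontrivial (A ⊗[B] A) with hs | hs
      · exact Subsingleton.elim _ _
      haveI : CharP (A ⊗[B] A) p := charP_of_injective_ringHom (algebraMap k (A ⊗[B] A)).injective p
      have h := pow_eq_zero_of_le hN hm
      rw [sub_pow_char_pow, Algebra.TensorProduct.tmul_pow, Algebra.TensorProduct.tmul_pow, one_pow,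
        sub_eq_zero] at h
      exact h
    let ψ' : k → k := fun a => ψ a ^ p ^ N
    have hψ' : AddP p ψ' := addP_pow hψ N
    have hker'' : ∀ a, ψ' a = 0 ↔ a ∈ D := fun a => by
      rw [show ψ' a = ψ a ^ p ^ N from rfl, pow_eq_zero_iff (pow_ne_zero N hp.out.ne_zero), hker']
    have hψ'0 : ψ' ≠ fun _ => 0 := fun e => hψ0 (funext fun a =>
      (pow_eq_zero_iff (pow_ne_zero N hp.out.ne_zero)).mp (congrFun e a))
    have hβ : ∀ x, (g x).ofConv (f ^ p ^ N) = ψ' ((g x).ofConv y) := fun x => by rw [map_pow, hf]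
    obtain ⟨π, w, hπ, hw, hwadd, hwψ⟩ := exists_split_finite (fun x x' : Pts p k nn => cy z (g x) (g x'))
      (cy_pol hg.pol) hc hψ' hψ'0 (fun x => (g x).ofConv (f ^ p ^ N)) (hg.pol _ hfN) fun x x' => by
        rw [show (g (x + x')).ofConv (f ^ p ^ N) = (g x * g x').ofConv (f ^ p ^ N) from hg.add x x' _ hfN,
          map_pow, hf, mul_y hy0 hz, hβ, hβ, ← show ψ' _ = ψ _ ^ p ^ N from rfl, hψ'.map_add, hψ'.map_add]
    obtain ⟨g', hgB, hgy, hadd, hpol⟩ := step_core hB hy0 hz hg π hπ.pol w hw hwadd fun x => by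
      have h1 : w x - (g (π x)).ofConv y ∈ D := (hker'' _).mp (by
        show hψ'.hom (w x - (g (π x)).ofConv y) = 0
        rw [map_sub]
        show ψ' (w x) - ψ' _ = 0
        rw [hwψ, hβ, sub_self])
      obtain ⟨ρ, hρ, hρy⟩ := h1
      exact ⟨g (π x) * ρ, shift_rel hB hρ _, by rw [shift_y hy0 hz hρ, hρy, add_sub_cancel]⟩
    exact good_step_of_finite hB hy0 hz hg hD π hπ.pol hπ.surj hπ.fin w g' hgB hgy hadd hpol
  · -- a new factor
    have hall : ∀ a, a ∈ D := by
      intro a
      let εB : B →ₐ[k] k := (Bialgebra.counitAlgHom k A).comp B.val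
      let ev : Polynomial B →ₐ[k] A := (Polynomial.aeval y).restrictScalars k
      let ea : Polynomial B →ₐ[k] k :=
        { Polynomial.eval₂RingHom εB.toRingHom a with
          commutes' := fun c => by
            show Polynomial.eval₂ εB.toRingHom a (algebraMap k (Polynomial B) c) = _
            rw [IsScalarTower.algebraMap_apply k B (Polynomial B), Polynomial.algebraMap_eq, Polynomial.eval₂_C]
            exact εB.commutes c }
      have hkey : ∀ P : Polynomial B, ev P = 0 → ea P = 0 := by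
        intro P hP
        have hz' : P.map εB.toRingHom = 0 := by
          refine Polynomial.eq_zero_of_infinite_isRoot _ (Set.Infinite.mono ?_ hD)
          rintro d ⟨ρ, hρ, rfl⟩
          show (P.map εB.toRingHom).IsRoot (ρ.ofConv y)
          rw [Polynomial.IsRoot.def, Polynomial.eval_map]
          have h := congrArg ρ.ofConv hP
          rw [map_zero] at h
          refine Eq.trans ?_ h
          show _ = ρ.ofConv (Polynomial.aeval y P)
          rw [Polynomial.aeval_def]
          refine Eq.trans ?_ (Polynomial.hom_eval₂ P (algebraMap B A) ρ.ofConv.toRingHom y).symm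
          congr 1
          exact RingHom.ext fun b => ((hρ b b.2).trans (one_pt_apply _)).symm
        show Polynomial.eval₂ εB.toRingHom a P = 0
        rw [← Polynomial.eval_map, hz', Polynomial.eval_zero]
      have hrange : ev.range = B' := by
        refine le_antisymm ?_ (sup_le (fun b hb => ⟨Polynomial.C ⟨b, hb⟩, by
          show Polynomial.aeval y (Polynomial.C (⟨b, hb⟩ : B)) = b
          rw [Polynomial.aeval_C]
          rfl⟩) (Algebra.adjoin_le (Set.singleton_subset_iff.mpr ⟨Polynomial.X, Polynomial.aeval_X y⟩)))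
        rintro _ ⟨P, rfl⟩
        show Polynomial.aeval y P ∈ B'
        induction P using Polynomial.induction_on' with
        | add P Q hP hQ => rw [map_add]; exact add_mem hP hQ
        | monomial n b =>
          rw [Polynomial.aeval_monomial]
          exact mul_mem (le_sup_left (a := B) b.2) (pow_mem hyB n)
      let e := Ideal.quotientKerAlgEquivOfSurjective (f := ev.rangeRestrict) (AlgHom.rangeRestrict_surjective _)
      let χ0 : ev.range →ₐ[k] k :=
        (Ideal.Quotient.liftₐ _ ea fun P hP => hkey P (congrArg Subtype.val hP)).comp e.symm.toAlgHom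
      obtain ⟨χ, hχ⟩ := HopfPts.exists_point_extend ev.range (hrange ▸ hB') χ0
      have hχ' : ∀ P : Polynomial B, χ (ev P) = ea P := fun P => by
        refine (hχ (ev.rangeRestrict P)).trans ?_
        have h1 : e.symm (ev.rangeRestrict P) = Ideal.Quotient.mk _ P := e.injective (by rw [AlgEquiv.apply_symm_apply]; rfl)
        show Ideal.Quotient.liftₐ (RingHom.ker ev.rangeRestrict) ea (fun P hP => hkey P (congrArg Subtype.val hP))
          (e.symm (ev.rangeRestrict P)) = ea P
        rw [h1]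
        rfl
      refine ⟨toConv χ, fun b hb => ?_, ?_⟩
      · rw [one_pt_apply]
        have h := hχ' (Polynomial.C ⟨b, hb⟩)
        rw [show ev (Polynomial.C (⟨b, hb⟩ : B)) = b from Polynomial.aeval_C _ _] at h
        exact h.trans (Polynomial.eval₂_C _ _)
      · have h := hχ' Polynomial.X
        rw [show ev Polynomial.X = y from Polynomial.aeval_X y] at h
        exact h.trans (Polynomial.eval₂_X _ _)
    obtain ⟨r', nn', π, w, hcov⟩ := exists_cov (fun x x' : Pts p k nn => cy z (g x) (g x')) (cy_pol hg.pol) hc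
    obtain ⟨g', hgB, hgy, hadd, hpol⟩ := step_core hB hy0 hz hg π hcov.pol w hcov.wpol hcov.add fun x => by
      obtain ⟨ρ, hρ, hρy⟩ := hall (w x - (g (π x)).ofConv y)
      exact ⟨g (π x) * ρ, shift_rel hB hρ _, by rw [shift_y hy0 hz hρ, hρy, add_sub_cancel]⟩
    refine ⟨hB', r', nn', g', hadd, hpol, fun σ => ?_, ?_⟩
    · obtain ⟨x, hx⟩ := hg.surj σ
      obtain ⟨v, hv, hvw⟩ := hcov.surj x (σ.ofConv y)
      refine ⟨v, rel_sup ?_ (hvw.symm.trans (hgy v).symm)⟩
      rw [← hv] at hx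
      exact hx.trans (hgB v).symm
    · refine (hg.fin.biUnion fun x₀ _ => hcov.finite_fibre hc x₀ 0).subset fun x hx => ?_
      refine Set.mem_biUnion (x := π x) ((hgB x).symm.trans fun b hb => hx b (le_sup_left (a := B) hb)) ⟨rfl, ?_⟩
      rw [← hgy, hx y hyB, one_pt_apply, hy0]

end Step

variable [IsAlgClosed k] [CharP k p] [IsDomain A] [Algebra.FiniteType k A]

omit [IsAlgClosed k] [CharP k p] [IsDomain A] [Algebra.FiniteType k A] hp in
theorem delta_mem_fil {n : ℕ} (hn : 1 ≤ n) {a : A} (ha : a ∈ fil k A A (n + 1)) :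
    Coalgebra.comul (R := k) a - a ⊗ₜ[k] (1 : A) - (1 : A) ⊗ₜ[k] a ∈
      LinearMap.range (TensorProduct.mapIncl (fil k A A n) (fil k A A n)) := by
  let T := LinearMap.range (TensorProduct.mapIncl (fil k A A n) (fil k A A n))
  have h1n : (1 : A) ∈ fil k A A n := fil_mono hn (mem_fil_one_iff.mpr ⟨1, one_smul _ _⟩)
  have key : ∀ x ∈ ⨆ i ∈ Finset.range (n + 1), LinearMap.range (TensorProduct.mapIncl (fil k A A (i + 1))
      (fil k A A (n + 1 - i))), ∃ t ∈ T, ∃ u v : A, x = t + u ⊗ₜ[k] (1 : A) + (1 : A) ⊗ₜ[k] v := by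
    intro x hx
    let S : Submodule k (A ⊗[k] A) :=
      { carrier := {x | ∃ t ∈ T, ∃ u v : A, x = t + u ⊗ₜ[k] (1 : A) + (1 : A) ⊗ₜ[k] v}
        zero_mem' := ⟨0, zero_mem _, 0, 0, by simp⟩
        add_mem' := fun {a b} ⟨t, ht, u, v, ha⟩ ⟨t', ht', u', v', hb⟩ => ⟨t + t', add_mem ht ht', u + u', v + v', by
          rw [ha, hb, TensorProduct.add_tmul, TensorProduct.tmul_add]; abel⟩
        smul_mem' := fun c a ⟨t, ht, u, v, ha⟩ => ⟨c • t, Submodule.smul_mem _ c ht, c • u, c • v, by
          rw [ha, smul_add, smul_add, TensorProduct.smul_tmul', TensorProduct.tmul_smul]⟩ }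
    suffices h : (⨆ i ∈ Finset.range (n + 1), LinearMap.range (TensorProduct.mapIncl (fil k A A (i + 1))
        (fil k A A (n + 1 - i)))) ≤ S from h hx
    refine iSup₂_le fun i hi => ?_
    rintro _ ⟨w, rfl⟩
    induction w with
    | zero => rw [map_zero]; exact zero_mem _
    | add a b ha hb => rw [map_add]; exact add_mem ha hb
    | tmul q q' =>
      have hi' := Finset.mem_range.mp hi
      by_cases hi0 : i = 0
      · obtain ⟨c, hc⟩ := mem_fil_one_iff.mp ((fil_mono (show i + 1 ≤ 1 by omega)) q.2)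
        refine ⟨0, zero_mem _, 0, c • (q' : A), ?_⟩
        simp [TensorProduct.mapIncl, ← hc, TensorProduct.tmul_smul, TensorProduct.smul_tmul']
      by_cases hin : i = n
      · obtain ⟨c, hc⟩ := mem_fil_one_iff.mp ((fil_mono (show n + 1 - i ≤ 1 by omega)) q'.2)
        refine ⟨0, zero_mem _, c • (q : A), 0, ?_⟩
        simp [TensorProduct.mapIncl, ← hc, TensorProduct.tmul_smul, TensorProduct.smul_tmul']
      · refine ⟨TensorProduct.mapIncl _ _ (q ⊗ₜ q'), ⟨(⟨q, fil_mono (show i + 1 ≤ n by omega) q.2⟩ : fil k A A n) ⊗ₜ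
          (⟨q', fil_mono (show n + 1 - i ≤ n by omega) q'.2⟩ : fil k A A n), rfl⟩, 0, 0, by simp⟩
  obtain ⟨t, ht, u, v, e⟩ := key _ (comul_mem_fil ha)
  have hl : ∀ t ∈ T, TensorProduct.lid k A ((Coalgebra.counit (R := k) (A := A)).rTensor A t) ∈ fil k A A n ∧
      TensorProduct.rid k A ((Coalgebra.counit (R := k) (A := A)).lTensor A t) ∈ fil k A A n := by
    rintro _ ⟨w, rfl⟩
    induction w with
    | zero => simp
    | add a b ha hb => simp only [map_add]; exact ⟨add_mem ha.1 hb.1, add_mem ha.2 hb.2⟩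
    | tmul q q' =>
      simp only [TensorProduct.mapIncl, TensorProduct.map_tmul, Submodule.subtype_apply, LinearMap.rTensor_tmul,
        LinearMap.lTensor_tmul, TensorProduct.lid_tmul, TensorProduct.rid_tmul]
      exact ⟨Submodule.smul_mem _ _ q'.2, Submodule.smul_mem _ _ q.2⟩
  have hv : a - v ∈ fil k A A n := by
    have h := congrArg (fun x => TensorProduct.lid k A ((Coalgebra.counit (R := k) (A := A)).rTensor A x)) e
    simp only [Coalgebra.rTensor_counit_comul, map_add, LinearMap.rTensor_tmul, TensorProduct.lid_tmul, one_smul,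
      Bialgebra.counit_one] at h
    rw [show a - v = _ from sub_eq_of_eq_add h]
    exact add_mem (hl t ht).1 (Submodule.smul_mem _ _ h1n)
  have hu : a - u ∈ fil k A A n := by
    have h := congrArg (fun x => TensorProduct.rid k A ((Coalgebra.counit (R := k) (A := A)).lTensor A x)) e
    simp only [Coalgebra.lTensor_counit_comul, map_add, LinearMap.lTensor_tmul, TensorProduct.rid_tmul, one_smul,
      Bialgebra.counit_one] at h
    rw [show a - u = TensorProduct.rid k A ((Coalgebra.counit (R := k) (A := A)).lTensor A t) +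
      Coalgebra.counit (R := k) v • (1 : A) by rw [h]; abel]
    exact add_mem (hl t ht).2 (Submodule.smul_mem _ _ h1n)
  rw [show Coalgebra.comul (R := k) a - a ⊗ₜ[k] (1 : A) - (1 : A) ⊗ₜ[k] a =
    t - ((a - u) ⊗ₜ[k] (1 : A)) - (1 : A) ⊗ₜ[k] (a - v) by
      rw [e, TensorProduct.sub_tmul, TensorProduct.tmul_sub]; abel]
  exact sub_mem (sub_mem ht ⟨(⟨_, hu⟩ : fil k A A n) ⊗ₜ (⟨_, h1n⟩ : fil k A A n), rfl⟩)
    ⟨(⟨_, h1n⟩ : fil k A A n) ⊗ₜ (⟨_, hv⟩ : fil k A A n), rfl⟩

theorem exists_good (hcomm : ∀ σ τ : Gpt k A, σ * τ = τ * σ) : ∀ (n : ℕ) (V : Finset A),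
    (∀ v ∈ V, v ∈ fil k A A n) → ∃ B : Subalgebra k A, Good p B ∧ ∀ v ∈ V, v ∈ B := by
  classical
  intro n
  induction n with
  | zero =>
    intro V hV
    refine ⟨⊥, good_bot, fun v hv => ?_⟩
    rw [show v = 0 by simpa [fil_zero] using hV v hv]
    exact zero_mem _
  | succ n ih =>
    intro V hV
    rcases Nat.eq_zero_or_pos n with rfl | hn
    · refine ⟨⊥, good_bot, fun v hv => ?_⟩
      obtain ⟨c, hc⟩ := mem_fil_one_iff.mp (hV v hv)
      rw [← hc]
      exact Subalgebra.smul_mem _ (one_mem _) c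
    have hs : ∀ v ∈ V, ∃ s : Finset A, (∀ a ∈ s, a ∈ fil k A A n) ∧ ∀ B : Subalgebra k A, (∀ a ∈ s, a ∈ B) →
        ∃ z : B ⊗[k] B, Coalgebra.comul (R := k) v - v ⊗ₜ[k] (1 : A) - (1 : A) ⊗ₜ[k] v =
          TensorProduct.map B.val.toLinearMap B.val.toLinearMap z := by
      intro v hv
      obtain ⟨w, hw⟩ := delta_mem_fil hn (hV v hv)
      obtain ⟨S, hS⟩ := TensorProduct.exists_finset w
      refine ⟨S.image (fun q => (q.1 : A)) ∪ S.image (fun q => (q.2 : A)), fun a ha => ?_, fun B hB => ?_⟩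
      · rcases Finset.mem_union.mp ha with h | h <;> obtain ⟨q, -, rfl⟩ := Finset.mem_image.mp h
        · exact q.1.2
        · exact q.2.2
      · refine ⟨∑ q ∈ S.attach, (⟨(q.1.1 : A), hB _ (Finset.mem_union_left _ (Finset.mem_image_of_mem _ q.2))⟩ : B) ⊗ₜ
          (⟨(q.1.2 : A), hB _ (Finset.mem_union_right _ (Finset.mem_image_of_mem _ q.2))⟩ : B), ?_⟩
        rw [← hw, hS, map_sum, map_sum]
        exact (Finset.sum_attach S fun q => TensorProduct.mapIncl _ _ (q.1 ⊗ₜ[k] q.2)).symm.trans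
          (Finset.sum_congr rfl fun q _ => rfl)
    choose s hs1 hs2 using hs
    obtain ⟨B₀, hB₀, hmem⟩ := ih (V.attach.biUnion fun v => s v.1 v.2) fun a ha => by
      obtain ⟨v, -, hav⟩ := Finset.mem_biUnion.mp ha
      exact hs1 v.1 v.2 a hav
    suffices h : ∀ W : Finset A, W ⊆ V → ∃ B, Good p B ∧ B₀ ≤ B ∧ ∀ v ∈ W, v ∈ B by
      obtain ⟨B, hB, -, h⟩ := h V subset_rfl
      exact ⟨B, hB, h⟩
    intro W hW
    induction W using Finset.induction with
    | empty => exact ⟨B₀, hB₀, le_rfl, by simp⟩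
    | insert v W _ ihW =>
      obtain ⟨B, hB, hle, hWB⟩ := ihW ((Finset.subset_insert v W).trans hW)
      have hvV := hW (Finset.mem_insert_self v W)
      obtain ⟨z, hz⟩ := hs2 v hvV B fun a ha =>
        hle (hmem a (Finset.mem_biUnion.mpr ⟨⟨v, hvV⟩, Finset.mem_attach _ _, ha⟩))
      let c := Coalgebra.counit (R := k) v
      let y : A := v - c • 1
      obtain ⟨r, nn, g, hg⟩ := hB.cov
      have hstep := good_step (p := p) hB.hopf (y := y) (by simp [y, c]) (z := z + c • ((1 : B) ⊗ₜ 1)) (by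
        rw [map_add, map_smul, ← hz]
        simp only [y, map_sub, map_smul, Bialgebra.comul_one, Algebra.TensorProduct.one_def, TensorProduct.sub_tmul,
          TensorProduct.tmul_sub, TensorProduct.map_tmul, AlgHom.toLinearMap_apply, map_one, TensorProduct.smul_tmul',
          TensorProduct.tmul_smul]
        abel) hcomm hg
      refine ⟨_, hstep, hle.trans le_sup_left, fun a ha => ?_⟩
      rcases Finset.mem_insert.mp ha with rfl | ha
      · rw [← sub_add_cancel a (c • (1 : A))]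
        exact add_mem (le_sup_right (a := B) (Algebra.subset_adjoin rfl))
          (Subalgebra.smul_mem _ (one_mem _) _)
      · exact le_sup_left (a := B) (hWB a ha)

/-- A commutative group of exponent a power of `p` is covered by a product of Witt groups. -/
theorem exists_covers (hcomm : ∀ σ τ : Gpt k A, σ * τ = τ * σ) (N : ℕ) (hN : ∀ σ : Gpt k A, σ ^ p ^ N = 1) :
    ∃ (r : ℕ) (nn : Fin r → ℕ) (g : Pts p k nn → Gpt k A), (∀ x y, g (x + y) = g x * g y) ∧
      (∀ a, (fun x => (g x).ofConv a) ∈ polFun (cP nn)) ∧ Function.Surjective g ∧ {x | g x = 1}.Finite := by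
  obtain ⟨s, hs⟩ := (inferInstance : Algebra.FiniteType k A).out
  choose n hn using fun a => fil_exhaustive (p := p) (k := k) N hN a
  obtain ⟨B, hB, hsB⟩ := exists_good (p := p) hcomm (s.sup n) s fun v hv => fil_mono (Finset.le_sup hv) (hn v)
  have htop : B = ⊤ := eq_top_iff.mpr (hs ▸ Algebra.adjoin_le fun a ha => hsB a ha)
  subst htop
  obtain ⟨r, nn, g, hg⟩ := hB.cov
  have hext : ∀ {σ τ : Gpt k A}, Rel ⊤ σ τ → σ = τ := fun h =>
    WithConv.ofConv_injective (AlgHom.ext fun a => h a Algebra.mem_top)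
  refine ⟨r, nn, g, fun x y => hext (hg.add x y), fun a => hg.pol a Algebra.mem_top, fun σ => ?_, ?_⟩
  · obtain ⟨x, hx⟩ := hg.surj σ
    exact ⟨x, (hext hx).symm⟩
  · exact hg.fin.subset fun x hx b _ => by rw [show g x = 1 from hx]

end Groth.Agent.UnipIsogLib
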