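import Groth.Agent.UnipIsogLib.Ore
import Mathlib

/-! Extensions of products of Witt groups by the additive group, on rational points. -/

set_option autoImplicit false
set_option backward.isDefEq.respectTransparency false
universe u

open CategoryTheory AlgebraicGeometry MonObj
open Groth.Agent.WittHomLib Groth.Agent.WittExtLib

noncomputable section

namespace Groth.Agent.UnipIsogLib

variable {p : ℕ} [hp : Fact p.Prime] {k : Type u} [Field k] [CharP k p] [IsAlgClosed k]

local notation "𝕍" n:max => TruncatedWittVector p n k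
local notation "ℙ" nn:max => Pts p k nn

theorem carry_length_zero (x y : 𝕍 0) : carry x y = 0 := by
  haveI : Subsingleton (𝕍 0) := ⟨fun x y => TruncatedWittVector.ext fun i => i.elim0⟩
  rw [Subsingleton.elim y 0, carry_zero_right]

theorem std_mem {X : Type*} {σ : Type} {c : σ → X → k} {n : ℕ} {φ : k → k} (hφ : AddP p φ) {a b : X → 𝕍 n}
    (ha : IsPolV c a) (hb : IsPolV c b) : (fun x => φ (carry (a x) (b x))) ∈ polFun c :=
  addP_mem hφ (single_coeff_mem (p := p)
    (IsPolV.comp₂ ha hb (f := fun v w => single (p := p) (carry v w)) (IsMor₂.isPolV isMor₂_carry)))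

theorem neg_mem' {X : Type*} {σ : Type} {c : σ → X → k} {f : X → k} (hf : f ∈ polFun c) :
    (fun x => -f x) ∈ polFun c := neg_mem hf

theorem add_mem' {X : Type*} {σ : Type} {c : σ → X → k} {f g : X → k} (hf : f ∈ polFun c) (hg : g ∈ polFun c) :
    (fun x => f x + g x) ∈ polFun c := add_mem hf hg

theorem sub_mem' {X : Type*} {σ : Type} {c : σ → X → k} {f g : X → k} (hf : f ∈ polFun c) (hg : g ∈ polFun c) :
    (fun x => f x - g x) ∈ polFun c := sub_mem hf hg

theorem sum_mem' {X : Type*} {σ : Type} {c : σ → X → k} {ν : Type*} (s : Finset ν) {f : ν → X → k}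
    (hf : ∀ i ∈ s, f i ∈ polFun c) : (fun x => ∑ i ∈ s, f i x) ∈ polFun c := by
  simpa only [← Finset.sum_apply] using Subalgebra.sum_mem _ hf

theorem decomp_one (n : ℕ) (f : 𝕍 n → 𝕍 n → k)
    (hm : (fun z : _ × _ => f z.1 z.2) ∈ polFun (cProd (cV n) (cV n))) (hc : IsCoc f) :
    ∃ (φ : k → k) (h : 𝕍 n → k), AddP p φ ∧ h ∈ polFun (cV n) ∧ ∀ v w, f v w = φ (carry v w) + cob h v w := by
  rcases n with - | n
  · haveI : Subsingleton (𝕍 0) := ⟨fun x y => TruncatedWittVector.ext fun i => i.elim0⟩
    refine ⟨fun _ => 0, fun _ => 0, AddP.zero, const_mem _ 0, fun v w => ?_⟩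
    rw [Subsingleton.elim w 0, hc.zero]
    simp [cob]
  · obtain ⟨φ, h, hφ, hh, e⟩ := classify₁ n (fun v w => single (p := p) (f v w))
      (IsPolV.isMor₂ (f := fun v w => single (p := p) (f v w)) (isPolV_single hm))
      (hc.map (sc p k).symm.toAddMonoidHom)
    refine ⟨φ, fun v => (h v).coeff 0, hφ, IsMor.isPolV hh 0, fun v w => ?_⟩
    have h := congrArg (sc p k) (e v w)
    simpa only [cob, map_add, map_sub, sc_apply, coeff_single] using h

/-- The decomposition of a cocycle. -/
theorem decomp_coc : ∀ (r : ℕ) (nn : Fin r → ℕ) (c : ℙ nn → ℙ nn → k),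
    (fun z : _ × _ => c z.1 z.2) ∈ polFun (cProd (cP nn) (cP nn)) → IsCoc c →
    ∃ (φ : Fin r → k → k) (h : ℙ nn → k), (∀ i, AddP p (φ i)) ∧ h ∈ polFun (cP nn) ∧
      ∀ x y, c x y = ∑ i, φ i (carry (x i) (y i)) + cob h x y := by
  intro r
  induction r with
  | zero =>
    intro nn c _ hc
    refine ⟨fun i => i.elim0, fun _ => 0, fun i => i.elim0, const_mem _ 0, fun x y => ?_⟩
    rw [Subsingleton.elim y 0, hc.zero]
    simp [cob]
  | succ r ih =>
    intro nn c hm hc
    let tl : Fin r → ℕ := fun i => nn i.succ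
    let ν₀ : 𝕍 (nn 0) →+ ℙ nn := AddMonoidHom.single (fun i => 𝕍 (nn i)) 0
    let ν₁ : ℙ tl →+ ℙ nn :=
      { toFun := fun x => Fin.cons 0 x
        map_zero' := funext fun i => by induction i using Fin.cases with
          | zero => rfl
          | succ i => rfl
        map_add' := fun x y => funext fun i => by induction i using Fin.cases with
          | zero => exact (add_zero 0).symm
          | succ i => rfl }
    have hν₀ : ∀ i, IsPolV (cV (nn 0)) (fun v => ν₀ v i) := fun i => by
      induction i using Fin.cases with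
      | zero =>
        have e : (fun v => ν₀ v 0) = fun v => v :=
          funext fun v => (Pi.single_eq_same (M := fun i => 𝕍 (nn i)) 0 v)
        rw [e]
        exact isPolV_id _
      | succ i =>
        have e : (fun v => ν₀ v i.succ) = fun _ => 0 :=
          funext fun v => Pi.single_eq_of_ne (M := fun i => 𝕍 (nn i)) (Fin.succ_ne_zero i) v
        rw [e]
        exact isPolV_zero _
    have hν₁ : IsPolP (fun x => ν₁ x) := fun i => by
      induction i using Fin.cases with
      | zero => exact isPolV_zero _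
      | succ i => exact isPolV_proj tl i
    have hm₁ := hν₁.comp_pol₂ hm
    obtain ⟨φ', h', hφ', hh', e'⟩ := ih tl (fun x y => c (ν₁ x) (ν₁ y)) hm₁ (hc.comap ν₁)
    obtain ⟨φ₀, h₀, hφ₀, hh₀, e₀⟩ : ∃ (φ₀ : k → k) (h₀ : 𝕍 (nn 0) → k), AddP p φ₀ ∧ h₀ ∈ polFun (cV (nn 0)) ∧
        ∀ v w, c (ν₀ v) (ν₀ w) = φ₀ (carry v w) + cob h₀ v w := by
      have hm₀ : (fun z : 𝕍 (nn 0) × 𝕍 (nn 0) => c (ν₀ z.1) (ν₀ z.2)) ∈
          polFun (cProd (cV (nn 0)) (cV (nn 0))) :=
        pair_comp_mem (a := fun z : 𝕍 (nn 0) × 𝕍 (nn 0) => ν₀ z.1) (b := fun z : 𝕍 (nn 0) × 𝕍 (nn 0) => ν₀ z.2)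
          (fun t => fst_mem _ (hν₀ t.1 t.2)) (fun t => snd_mem _ (hν₀ t.1 t.2))
          (f := fun z : ℙ nn × ℙ nn => c z.1 z.2) hm
      exact decomp_one _ _ hm₀ (hc.comap ν₀)
    let P₀ : ℙ nn → ℙ nn := fun x => ν₀ (x 0)
    let P₁ : ℙ nn → ℙ nn := fun x => ν₁ (fun i => x i.succ)
    have hsplit : ∀ x, P₀ x + P₁ x = x := fun x => funext fun i => by
      induction i using Fin.cases with
      | zero =>
        show Pi.single (M := fun i => 𝕍 (nn i)) 0 (x 0) 0 + 0 = x 0
        rw [Pi.single_eq_same, add_zero]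
      | succ i =>
        show Pi.single (M := fun i => 𝕍 (nn i)) 0 (x 0) i.succ + x i.succ = x i.succ
        rw [Pi.single_eq_of_ne (Fin.succ_ne_zero i), zero_add]
    have htlP : IsPolP (p := p) (k := k) (fun x : ℙ nn => (fun i => x i.succ : ℙ tl)) := fun i => isPolV_proj nn i.succ
    refine ⟨Fin.cons φ₀ φ', fun x => h₀ (x 0) + h' (fun i => x i.succ) + -c (P₀ x) (P₁ x), ?_, ?_, fun x y => ?_⟩
    · intro i
      induction i using Fin.cases with
      | zero => exact hφ₀
      | succ i => exact hφ' i
    · refine add_mem' (add_mem' (comp_mem (fun l => isPolV_proj nn 0 l) hh₀) (htlP.comp_pol hh')) (neg_mem' ?_)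
      exact pair_comp_mem (a := P₀) (b := P₁) (fun t => IsPolV.comp₁ (isPolV_proj nn 0) (hν₀ t.1) t.2)
        (fun t => (htlP.comp hν₁).mem t) (f := fun z : ℙ nn × ℙ nn => c z.1 z.2) hm
    · have h4 := hc.four (P₀ x) (P₁ x) (P₀ y) (P₁ y)
      rw [hsplit, hsplit] at h4
      have a0 : P₀ x + P₀ y = P₀ (x + y) := (ν₀.map_add _ _).symm
      have a1 : P₁ x + P₁ y = P₁ (x + y) := (ν₁.map_add _ _).symm
      rw [a0, a1] at h4
      have b0 := e₀ (x 0) (y 0)
      have b1 := e' (fun i => x i.succ) (fun i => y i.succ)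
      rw [Fin.sum_univ_succ]
      simp only [Fin.cons_zero, Fin.cons_succ, cob] at b0 b1 ⊢
      show c x y = _
      have c0 : (x + y) 0 = x 0 + y 0 := rfl
      have c1 : (fun i : Fin r => (x + y) i.succ) = (fun i : Fin r => x i.succ : ℙ tl) + fun i : Fin r => y i.succ := rfl
      rw [c0, c1]
      linear_combination h4 + b0 + b1

theorem carry_shift {m n : ℕ} (h : m ≤ n) (x y : 𝕍 m) :
    carry (WittGrp.shift p h x) (WittGrp.shift p h y) = carry x y := by
  have he : ∀ v : 𝕍 m, ext0 (WittGrp.shift p h v) = WittGrp.shift p (Nat.succ_le_succ h) (ext0 v) := fun v => by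
    refine TruncatedWittVector.ext fun i => ?_
    induction i using Fin.lastCases with
    | last =>
      rw [WittGrp.coeff_shift, dif_pos (by simp)]
      refine (last_ext0 _).trans ((last_ext0 v).symm.trans ?_)
      rw [last]
      congr 1
      exact Fin.ext (show m = n - (n + 1 - (m + 1)) by omega)
    | cast j =>
      rw [coeff_ext0_castSucc, WittGrp.coeff_shift, WittGrp.coeff_shift]
      by_cases hj : n - m ≤ (j : ℕ)
      · rw [dif_pos hj, dif_pos (by simp; omega), ← coeff_ext0_castSucc v]
        congr 1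
        exact Fin.ext (show (j : ℕ) - (n - m) = j - (n + 1 - (m + 1)) by omega)
      · rw [dif_neg hj, dif_neg (by simp; omega)]
  rw [carry, he, he, ← map_add, carry, last, last, WittGrp.coeff_shift, dif_pos (by simp)]
  congr 1
  exact Fin.ext (show n - (n + 1 - (m + 1)) = m by omega)

theorem truncate_truncate' {a b c : ℕ} (h : a ≤ b) (h' : b ≤ c) (z : 𝕍 c) :
    TruncatedWittVector.truncate h (TruncatedWittVector.truncate h' z) = TruncatedWittVector.truncate (h.trans h') z :=
  TruncatedWittVector.ext fun i => by simp only [TruncatedWittVector.coeff_truncate]; rfl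

theorem truncate_inj {a b : ℕ} (h : a ≤ b) (h' : b ≤ a) :
    Function.Bijective (TruncatedWittVector.truncate (p := p) (R := k) h) := by
  obtain rfl : a = b := le_antisymm h h'
  have e : ∀ z : 𝕍 a, TruncatedWittVector.truncate h z = z := fun z =>
    TruncatedWittVector.ext fun i => by rw [TruncatedWittVector.coeff_truncate]; rfl
  exact ⟨fun x y hxy => by rwa [e, e] at hxy, fun x => ⟨x, e x⟩⟩

theorem isPolV_truncate {a b : ℕ} (h : a ≤ b) :
    IsPolV (cV (p := p) (k := k) b) (TruncatedWittVector.truncate h) :=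
  IsMor.isPolV (isMor_truncate h)

/-- A group covering the extension given by a cocycle. -/
structure IsCov {r r' : ℕ} {nn : Fin r → ℕ} {nn' : Fin r' → ℕ} (c : ℙ nn → ℙ nn → k) (π : ℙ nn' →+ ℙ nn)
    (w : ℙ nn' → k) : Prop where
  pol : IsPolP π
  wpol : w ∈ polFun (cP nn')
  add : ∀ x y, w (x + y) = w x + w y + c (π x) (π y)
  surj : ∀ x a, ∃ z, π z = x ∧ w z = a
  fin : {z | π z = 0 ∧ w z = 0}.Finite

theorem IsCov.finite_fibre {r r' : ℕ} {nn : Fin r → ℕ} {nn' : Fin r' → ℕ} {c : ℙ nn → ℙ nn → k}
    {π : ℙ nn' →+ ℙ nn} {w : ℙ nn' → k} (h : IsCov c π w) (hc : IsCoc c) (x₀ : ℙ nn) (b : k) :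
    {z | π z = x₀ ∧ w z = b}.Finite := by
  rcases Set.eq_empty_or_nonempty {z | π z = x₀ ∧ w z = b} with h0 | ⟨z₀, hz₀, hw₀⟩
  · rw [h0]; exact Set.finite_empty
  refine (h.fin.image (z₀ + ·)).subset fun z hz => ⟨z - z₀, ⟨?_, ?_⟩, add_sub_cancel _ _⟩
  · rw [map_sub, hz.1, hz₀, sub_self]
  · have h2 := h.add z₀ (z - z₀)
    rw [add_sub_cancel, map_sub, hz.1, hz₀, sub_self, hc.zero, hz.2, hw₀, add_zero] at h2
    linear_combination -h2

theorem exists_cov_aux {r : ℕ} {nn : Fin r → ℕ} : ∀ (s : ℕ) (φ : Fin r → k → k) (h : ℙ nn → k) (S : Finset (Fin r)),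
    S.card ≤ s → (∀ i ∉ S, φ i = fun _ => 0) → (∀ i, AddP p (φ i)) → h ∈ polFun (cP nn) →
    IsCoc (fun x y : ℙ nn => ∑ i, φ i (carry (x i) (y i)) + cob h x y) →
    ∃ (r' : ℕ) (nn' : Fin r' → ℕ) (π : ℙ nn' →+ ℙ nn) (w : ℙ nn' → k),
      IsCov (fun x y => ∑ i, φ i (carry (x i) (y i)) + cob h x y) π w := by
  intro s
  induction s with
  | zero =>
    intro φ h S hS hφS _ hh _
    have hφ0 : ∀ i, φ i = fun _ => 0 := fun i => hφS i (by simp [Finset.card_eq_zero.mp (Nat.le_zero.mp hS)])
    let nn' : Fin (r + 1) → ℕ := Fin.cons 1 nn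
    let π : ℙ nn' →+ ℙ nn := AddMonoidHom.mk' (fun (z : ℙ nn') (i : Fin r) => z i.succ) fun _ _ => rfl
    refine ⟨r + 1, nn', π, fun z => (z 0).coeff (0 : Fin 1) - h (π z), fun i => isPolV_proj nn' i.succ, ?_, ?_, ?_, ?_⟩
    · exact sub_mem' (isPolV_proj nn' 0 (0 : Fin 1)) (IsPolP.comp_pol (π := fun z => π z) (fun i => isPolV_proj nn' i.succ) hh)
    · intro x y
      simp only [hφ0, Finset.sum_const_zero, zero_add, cob, map_add]
      rw [show ((x + y) 0).coeff (0 : Fin 1) = _ from coeff_add_one (x 0) (y 0)]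
      ring
    · intro x a
      refine ⟨Fin.cons (single (p := p) (a + h x)) x, funext fun i => rfl, ?_⟩
      show (single (p := p) (a + h x)).coeff 0 - h x = a
      rw [coeff_single, add_sub_cancel_right]
    · refine (Set.finite_singleton (Fin.cons (single (p := p) (h 0)) 0 : ℙ nn')).subset fun z hz => ?_
      obtain ⟨hz1, hz2⟩ := hz
      refine funext fun i => ?_
      induction i using Fin.cases with
      | zero =>
        have e := eq_single (p := p) (z 0)
        rw [hz1, sub_eq_zero] at hz2
        rw [Fin.cons_zero]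
        exact e.trans (congrArg single hz2)
      | succ i => exact congrFun hz1 i
  | succ s ih =>
    intro φ h S hS hφS hφ hh hcoc
    classical
    by_cases hSs : S.card ≤ s
    · exact ih φ h S hSs hφS hφ hh hcoc
    obtain ⟨j, hjS, hjmax⟩ := Finset.exists_max_image S nn (Finset.card_pos.mp (by omega))
    by_cases hφj : φ j = fun _ => 0
    · refine ih φ h (S.erase j) (by rw [Finset.card_erase_of_mem hjS]; omega) (fun i hi => ?_) hφ hh hcoc
      by_cases hij : i = j
      · rw [hij, hφj]
      · exact hφS i fun hi' => hi (Finset.mem_erase.mpr ⟨hij, hi'⟩)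
    by_cases hone : ∀ i ∈ S, i = j
    · -- only one class survives
      let nn' : Fin r → ℕ := fun l => if l = j then nn l + 1 else nn l
      have hle : ∀ l, nn l ≤ nn' l := fun l => by simp only [nn']; split <;> omega
      have hj1 : nn j + 1 ≤ nn' j := by simp [nn']
      have hj2 : nn' j ≤ nn j + 1 := by simp [nn']
      let π : ℙ nn' →+ ℙ nn := AddMonoidHom.mk' (fun z l => TruncatedWittVector.truncate (hle l) (z l))
        fun x y => funext fun l => map_add _ _ _
      let e : ℙ nn' → 𝕍 (nn j + 1) := fun z => TruncatedWittVector.truncate hj1 (z j)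
      have hπ : IsPolP (fun z => π z) := fun l => IsPolV.comp₁ (isPolV_proj nn' l) (isPolV_truncate (hle l))
      have htr : ∀ z, TruncatedWittVector.truncate (Nat.le_succ (nn j)) (e z) = π z j := fun z =>
        truncate_truncate' _ _ _
      refine ⟨r, nn', π, fun z => φ j (last (e z)) - h (π z), hπ, ?_, ?_, ?_, ?_⟩
      · exact sub_mem' (addP_mem (hφ j) (IsPolV.comp₁ (isPolV_proj nn' j) (isPolV_truncate hj1) (Fin.last _)))
          (hπ.comp_pol hh)
      · intro x y
        have hadd : e (x + y) = e x + e y := map_add _ _ _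
        show φ j (last (e (x + y))) - h (π (x + y)) = φ j (last (e x)) - h (π x) + (φ j (last (e y)) - h (π y)) + (∑ i, φ i (carry (π x i) (π y i)) + cob h (π x) (π y))
        rw [hadd, last_add, (hφ j).map_add, (hφ j).map_add, htr, htr, map_add,
          Finset.sum_eq_single j (fun l _ hl => by rw [hφS l fun hl' => hl (hone l hl')]) (by simp), cob]
        ring
      · intro x a
        obtain ⟨b, hb⟩ := addP_surjective (hφ j) hφj (a + h x)
        have hex : ∀ l, ∃ v : 𝕍 (nn' l), TruncatedWittVector.truncate (hle l) v = x l ∧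
            ∀ h : nn l + 1 ≤ nn' l, l = j → last (TruncatedWittVector.truncate h v) = b := fun l => by
          by_cases hl : l = j
          · subst hl
            obtain ⟨v, hv⟩ := (truncate_inj (p := p) (k := k) hj1 hj2).2 (ext0 (x l) + top (nn l) b)
            refine ⟨v, ?_, fun h _ => by rw [hv, last_ext0_add_top]⟩
            rw [← truncate_truncate' (Nat.le_succ (nn l)) hj1, hv, map_add, truncate_ext0, truncate_top, add_zero]
          · obtain ⟨v, hv⟩ := (truncate_inj (p := p) (k := k) (hle l) (by simp [nn', hl])).2 (x l)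
            exact ⟨v, hv, fun _ h' => absurd h' hl⟩
        choose z hzπ' hze using hex
        have hzπ : π z = x := funext hzπ'
        refine ⟨z, hzπ, ?_⟩
        show φ j (last (e z)) - h (π z) = a
        rw [hzπ, show last (e z) = b from hze j hj1 rfl, hb, add_sub_cancel_right]
      · have hfin : {b | φ j b = h 0}.Finite :=
          finite_preimage_of_ker (hφ j).hom (finite_zeros (hφ j) hφj) (Set.finite_singleton (h 0))
        refine Set.Finite.of_finite_image (f := fun z => last (e z)) (hfin.subset ?_) fun z hz z' hz' he => ?_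
        · rintro _ ⟨z, ⟨hz1, hz2⟩, rfl⟩
          rw [hz1, sub_eq_zero] at hz2
          exact hz2
        · change last (e z) = last (e z') at he
          refine funext fun l => ?_
          by_cases hl : l = j
          · subst hl
            refine (truncate_inj (p := p) (k := k) hj1 hj2).1 ?_
            show e z = e z'
            rw [← decomp (e z), ← decomp (e z'), htr, htr, hz.1, hz'.1, he]
          · exact (truncate_inj (p := p) (k := k) (hle l) (by simp [nn', hl])).1
              ((congrFun hz.1 l).trans (congrFun hz'.1 l).symm)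
    -- eliminate one class
    push Not at hone
    obtain ⟨i, hiS, hij⟩ := hone
    obtain ⟨θ, M, hθ, hM, hθ0, hθM⟩ := ore (hφ i) (hφ j) hφj
    obtain ⟨A, a, hA, ha, hAe, hAiso⟩ := exists_endo (p := p) (m := nn i) hθ
    obtain ⟨B', b, hB', hb, hBe, -⟩ := exists_endo (p := p) (m := nn i) (addP_neg hM)
    let t : 𝕍 (nn i) →+ 𝕍 (nn j) := (WittGrp.shift p (hjmax i hiS)).comp B'
    let π₀f : ℙ nn → ℙ nn := fun x => Function.update (Function.update x i (A (x i))) j (x j + t (x i))
    have hπi : ∀ x, π₀f x i = A (x i) := fun x => by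
      simp only [π₀f, Function.update_of_ne hij, Function.update_self]
    have hπj : ∀ x, π₀f x j = x j + t (x i) := fun x => by simp only [π₀f, Function.update_self]
    have hπl : ∀ x l, l ≠ i → l ≠ j → π₀f x l = x l := fun x l hli hlj => by
      simp only [π₀f, Function.update_of_ne hlj, Function.update_of_ne hli]
    let π₀ : ℙ nn →+ ℙ nn := AddMonoidHom.mk' π₀f fun x y => funext fun l => by
      rw [Pi.add_apply]
      by_cases hlj : l = j
      · subst hlj
        rw [hπj, hπj, hπj, Pi.add_apply, Pi.add_apply, map_add]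
        abel
      by_cases hli : l = i
      · subst hli
        rw [hπi, hπi, hπi, Pi.add_apply, map_add]
      · rw [hπl _ l hli hlj, hπl _ l hli hlj, hπl _ l hli hlj, Pi.add_apply]
    have ht : IsPolV (cP nn) (fun x => t (x i)) :=
      IsPolV.comp₁ (IsPolV.comp₁ (isPolV_proj nn i) hB') (IsMor.isPolV (isMor_shift (hjmax i hiS)))
    have hπ₀ : IsPolP (fun x => π₀ x) := fun l => by
      show IsPolV _ fun x => π₀f x l
      by_cases hlj : l = j
      · subst hlj
        simp only [hπj]
        exact (isPolV_proj nn _).add ht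
      by_cases hli : l = i
      · subst hli
        simp only [hπi]
        exact IsPolV.comp₁ (isPolV_proj nn _) hA
      · simp only [hπl _ l hli hlj]
        exact isPolV_proj nn l
    let u : ℙ nn → k := fun x => -carry (x j) (t (x i))
    let h' : ℙ nn → k := fun x => h (π₀ x) + φ j (u x) + -φ i (a (x i)) + -φ j (b (x i))
    have hh' : h' ∈ polFun (cP nn) := by
      refine add_mem' (add_mem' (add_mem' (hπ₀.comp_pol hh) (addP_mem (hφ j) (neg_mem' ?_))) (neg_mem' ?_)) (neg_mem' ?_)
      · exact std_mem (p := p) addP_id (isPolV_proj nn j) ht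
      · exact addP_mem (hφ i) (comp_mem (fun l => isPolV_proj nn i l) ha)
      · exact addP_mem (hφ j) (comp_mem (fun l => isPolV_proj nn i l) hb)
    have key : ∀ x y, ∑ l, φ l (carry (π₀ x l) (π₀ y l)) + cob h (π₀ x) (π₀ y) =
        ∑ l, Function.update φ i (fun _ => 0) l (carry (x l) (y l)) + cob h' x y := by
      intro x y
      have hjm : j ∈ Finset.univ.erase i := Finset.mem_erase.mpr ⟨Ne.symm hij, Finset.mem_univ _⟩
      rw [← Finset.add_sum_erase _ _ (Finset.mem_univ i), ← Finset.add_sum_erase _ _ hjm,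
        ← Finset.add_sum_erase _ (fun l => Function.update φ i (fun _ => 0) l (carry (x l) (y l))) (Finset.mem_univ i),
        ← Finset.add_sum_erase _ (fun l => Function.update φ i (fun _ => 0) l (carry (x l) (y l))) hjm]
      rw [Finset.sum_congr rfl fun l hl => show φ l (carry (π₀ x l) (π₀ y l)) =
          Function.update φ i (fun _ => 0) l (carry (x l) (y l)) from by
        obtain ⟨hlj, hli, -⟩ := by simpa only [Finset.mem_erase] using hl
        show φ l (carry (π₀f x l) (π₀f y l)) = _
        rw [hπl _ l hli hlj, hπl _ l hli hlj, Function.update_of_ne hli]]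
      rw [show π₀ x i = A (x i) from hπi x, show π₀ y i = A (y i) from hπi y, show π₀ x j = _ from hπj x,
        show π₀ y j = _ from hπj y, Function.update_self, Function.update_of_ne (Ne.symm hij)]
      have f4 := (isCoc_carry (nn j) (p := p) (R := k)).four (x j) (t (x i)) (y j) (t (y i))
      have e1 := congrArg (φ i) (hAe (x i) (y i))
      have e2 := congrArg (φ j) (hBe (x i) (y i))
      have e3 := congrArg (φ j) f4
      have e4 : carry (t (x i)) (t (y i)) = carry (B' (x i)) (B' (y i)) :=
        carry_shift (hjmax i hiS) _ _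
      have hFi := (hφ i).map_add
      have hFj := (hφ j).map_add
      have hSi := (hφ i).hom.map_sub
      have hSj := (hφ j).hom.map_sub
      have hNj := (hφ j).hom.map_neg
      change ∀ a b, φ i (a - b) = φ i a - φ i b at hSi
      change ∀ a b, φ j (a - b) = φ j a - φ j b at hSj
      change ∀ a, φ j (-a) = -φ j a at hNj
      simp only [cob, hFi, hFj, hSi, hSj, hNj, hθM, e4] at e1 e2 e3
      simp only [cob, h', u, map_add, Pi.add_apply, hNj, hFj]
      linear_combination -e1 - e2 + e3
    have hcoc' : IsCoc (fun x y : ℙ nn => ∑ l, Function.update φ i (fun _ => 0) l (carry (x l) (y l)) + cob h' x y) := by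
      simpa only [← key] using hcoc.comap π₀
    obtain ⟨r', nn', π, w, hπw⟩ := ih (Function.update φ i fun _ => 0) h' (S.erase i)
      (by rw [Finset.card_erase_of_mem hiS]; omega) (fun l hl => by
        by_cases hli : l = i
        · rw [hli, Function.update_self]
        · rw [Function.update_of_ne hli]; exact hφS l fun hl' => hl (Finset.mem_erase.mpr ⟨hli, hl'⟩))
      (fun l => by
        by_cases hli : l = i
        · rw [hli, Function.update_self]; exact AddP.zero
        · rw [Function.update_of_ne hli]; exact hφ l) hh' hcoc'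
    refine ⟨r', nn', π₀.comp π, w, IsPolP.comp hπw.pol hπ₀, hπw.wpol, fun x y => ?_, fun x a' => ?_, ?_⟩
    · exact (hπw.add x y).trans (congrArg (w x + w y + ·) (key (π x) (π y)).symm)
    · obtain ⟨v, hv⟩ := (hAiso hθ0).1 (x i)
      obtain ⟨z, hz, hzw⟩ := hπw.surj (Function.update (Function.update x i v) j (x j - t v)) a'
      refine ⟨z, ?_, hzw⟩
      show π₀f (π z) = x
      rw [hz]
      refine funext fun l => ?_
      by_cases hlj : l = j
      · subst hlj
        rw [hπj, Function.update_self, Function.update_of_ne hij, Function.update_self, sub_add_cancel]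
      by_cases hli : l = i
      · subst hli
        rw [hπi, Function.update_of_ne hlj, Function.update_self, hv]
      · rw [hπl _ l hli hlj, Function.update_of_ne hlj, Function.update_of_ne hli]
    · have hK : {x | π₀ x = 0}.Finite := by
        refine (((hAiso hθ0).2).image fun v => Function.update (Function.update (0 : ℙ nn) i v) j (-t v)).subset
          fun x hx => ?_
        have hx' : ∀ l, π₀f x l = 0 := fun l => congrFun hx l
        refine ⟨x i, (hπi x).symm.trans (hx' i), funext fun l => ?_⟩
        dsimp only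
        by_cases hlj : l = j
        · subst hlj
          rw [Function.update_self]
          exact (neg_eq_of_add_eq_zero_left ((hπj x).symm.trans (hx' _)))
        by_cases hli : l = i
        · subst hli
          rw [Function.update_of_ne hlj, Function.update_self]
        · rw [Function.update_of_ne hlj, Function.update_of_ne hli]
          exact ((hπl x l hli hlj).symm.trans (hx' l)).symm
      exact (hK.biUnion fun x₀ _ => hπw.finite_fibre hcoc' x₀ 0).subset fun z hz => Set.mem_biUnion hz.1 ⟨rfl, hz.2⟩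

/-- Every extension of a product of Witt groups by the additive group is covered by a product of Witt groups. -/
theorem exists_cov {r : ℕ} {nn : Fin r → ℕ} (c : ℙ nn → ℙ nn → k)
    (hm : (fun z : _ × _ => c z.1 z.2) ∈ polFun (cProd (cP nn) (cP nn))) (hc : IsCoc c) :
    ∃ (r' : ℕ) (nn' : Fin r' → ℕ) (π : ℙ nn' →+ ℙ nn) (w : ℙ nn' → k), IsCov c π w := by
  obtain ⟨φ, h, hφ, hh, e⟩ := decomp_coc r nn c hm hc
  obtain rfl : c = fun x y => ∑ i, φ i (carry (x i) (y i)) + cob h x y := funext fun x => funext fun y => e x y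
  exact exists_cov_aux _ φ h Finset.univ le_rfl (fun i hi => absurd (Finset.mem_univ i) hi) hφ hh hc

end Groth.Agent.UnipIsogLib
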