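import Groth.Agent.UnipIsogLib.Class
import Groth.Agent.PPoly.Basic
import Mathlib

/-! Finite extensions of products of Witt groups are split by isogenies. -/

set_option autoImplicit false
set_option backward.isDefEq.respectTransparency false
universe u

open CategoryTheory AlgebraicGeometry MonObj
open Groth.Agent.WittHomLib Groth.Agent.WittExtLib

noncomputable section

namespace Groth.Agent.UnipIsogLib

variable {p : ℕ} [hp : Fact p.Prime] {k : Type u} [Field k] [CharP k p] [IsAlgClosed k]

local notation "𝕍" n:max => TruncatedWittVector p n k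
local notation "ℙ" nn:max => Pts p k nn
local notation "B" => Spec (CommRingCat.of k)

/-- An additive polynomial function is a combination of Frobenius powers. -/
theorem addP_of_poly {f : k → k} (P : Polynomial k) (hP : ∀ a, f a = P.eval a)
    (hadd : ∀ a b, f (a + b) = f a + f b) : AddP p f := by
  haveI : Infinite k := IsAlgClosed.instInfinite
  let Q : MvPolynomial (Fin 1) k := Polynomial.aeval (MvPolynomial.X 0) P
  have hQ : ∀ v : Fin 1 → k, MvPolynomial.eval v Q = f (v 0) := fun v => by
    rw [eval_aeval_poly, MvPolynomial.eval_X, hP]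
  have hIsAdd : PPoly.IsAdd Q := MvPolynomial.funext fun v => by
    rw [map_add, MvPolynomial.eval_rename, MvPolynomial.eval_rename, hQ, hQ]
    show MvPolynomial.eval v (MvPolynomial.aeval (fun i => (MvPolynomial.X (Sum.inl i) +
      MvPolynomial.X (Sum.inr i) : MvPolynomial (Fin 1 ⊕ Fin 1) k)) Q) = f (v (Sum.inl 0)) + f (v (Sum.inr 0))
    rw [← hadd, show Q = Polynomial.aeval (MvPolynomial.X 0) P from rfl, ← Polynomial.aeval_algHom_apply,
      MvPolynomial.aeval_X, eval_aeval_poly, hP]
    simp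
  have hQ0 : MvPolynomial.constantCoeff Q = 0 := by
    have h0 : f 0 = 0 := by simpa using hadd 0 0
    rw [← MvPolynomial.eval_zero]
    exact (hQ 0).trans h0
  have e : f = fun a => ∑ m ∈ Q.support, Q.coeff m * a ^ (m 0) := funext fun a => by
    rw [← hQ fun _ => a, MvPolynomial.eval_eq']
    simp
  rw [e]
  classical
  suffices h : ∀ s : Finset (Fin 1 →₀ ℕ), s ⊆ Q.support →
      AddP p (fun a => ∑ m ∈ s, Q.coeff m * a ^ (m 0)) from h _ subset_rfl
  intro s hs
  induction s using Finset.induction with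
  | empty => simpa using AddP.zero
  | insert m s hms ih =>
    simp only [Finset.sum_insert hms]
    obtain ⟨i, j, rfl⟩ := PPoly.single_of_isAdd (p := p) hIsAdd hQ0 m (hs (Finset.mem_insert_self m s))
    obtain rfl : i = 0 := Subsingleton.elim _ _
    simp only [Finsupp.single_eq_same]
    exact (AddP.monomial _ j).add (ih ((Finset.subset_insert _ s).trans hs))

/-- The first coordinate, zero for length zero. -/
def hd {n : ℕ} (v : 𝕍 n) : k := if h : 0 < n then v.coeff ⟨0, h⟩ else 0

theorem hd_succ {n : ℕ} (v : 𝕍 (n + 1)) : hd v = v.coeff 0 := dif_pos (Nat.succ_pos n)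

theorem hd_length_zero (v : 𝕍 0) : hd v = 0 := dif_neg (lt_irrefl 0)

theorem hd_add {n : ℕ} (v w : 𝕍 n) : hd (v + w) = hd v + hd w := by
  rcases n with - | n
  · rw [hd_length_zero, hd_length_zero, hd_length_zero, add_zero]
  · simpa only [hd_succ, head_apply] using map_add (head (p := p) (R := k) n) v w

theorem hd_mem (n : ℕ) : (fun v : 𝕍 n => hd v) ∈ polFun (cV n) := by
  rcases n with - | n
  · simpa only [hd_length_zero] using const_mem (cV (p := p) (k := k) 0) 0
  · simp only [hd_succ]
    exact coord_mem (cV (n + 1)) (0 : Fin (n + 1))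

theorem truncate_one_eq {n : ℕ} (h : 1 ≤ n + 1) (v : 𝕍 (n + 1)) :
    TruncatedWittVector.truncate h v = single (v.coeff 0) :=
  TruncatedWittVector.ext fun i => by
    rw [TruncatedWittVector.coeff_truncate, coeff_single, Subsingleton.elim i 0]
    rfl

/-- An additive polynomial function on a Witt group only sees the first coordinate. -/
theorem exists_hd {n : ℕ} (L : 𝕍 n → k) (hL : L ∈ polFun (cV n)) (hadd : ∀ v w, L (v + w) = L v + L w) :
    ∃ θ : k → k, AddP p θ ∧ ∀ v, L v = θ (hd v) := by
  rcases n with - | n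
  · refine ⟨fun _ => 0, AddP.zero, fun v => ?_⟩
    haveI : Subsingleton (𝕍 0) := ⟨fun x y => TruncatedWittVector.ext fun i => i.elim0⟩
    rw [Subsingleton.elim v 0]
    simpa using hadd 0 0
  haveI := smooth_W (p := p) (k := k) (n + 1)
  haveI := smooth_W (p := p) (k := k) 1
  obtain ⟨g, hg⟩ := IsPolV.isMor (f := fun v : 𝕍 (n + 1) => single (p := p) (L v)) (isPolV_single hL)
  haveI : IsMonHom g := isMonHom_of_pts (p := p) g fun x y => pv_injective (by
    rw [pv_mul, ← app_pv, ← app_pv, ← app_pv, pv_mul, hg]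
    simp only [hadd, single_add])
  obtain ⟨g₁, hg₁, hg₁e⟩ := factor_R (Nat.le_add_left 1 n) (Nat.le_succ n) (Nat.add_comm 1 n) g
    (by simpa using V_comp_hom (Nat.le_succ n) (Nat.add_comm 1 n) g)
  let θ : k → k := fun a => (app g₁ (single a)).coeff 0
  have hθm : θ ∈ polFun (fun (_ : Fin 1) (a : k) => a) :=
    comp_mem (c' := cV (p := p) (k := k) 1) (Φ := fun a => single (p := p) a)
      (fun l => by simp only [cV, coeff_single]; exact coord_mem (fun (_ : Fin 1) (a : k) => a) 0)
      (IsMor.isPolV (f := app g₁) ⟨g₁, rfl⟩ 0)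
  obtain ⟨P, hP⟩ := exists_poly hθm
  have hθ : AddP p θ := addP_of_poly (MvPolynomial.aeval (fun _ : Fin 1 => Polynomial.X) P)
    (fun a => by
      rw [hP, ← Polynomial.coe_aeval_eq_eval, ← AlgHom.comp_apply, MvPolynomial.comp_aeval]
      simp [MvPolynomial.aeval_eq_eval])
    (fun a b => by simp only [θ, single_add, app_hom_add, coeff_add_one])
  refine ⟨θ, hθ, fun v => ?_⟩
  have h := congrArg (fun f => (app f v).coeff 0) hg₁e
  simp only [app_comp, app_R, truncate_one_eq, congrFun hg, coeff_single] at h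
  rw [hd_succ]
  exact h.symm

/-- Every non-zero additive polynomial is the first coordinate of an isogeny. -/
theorem exists_endo_hd {n : ℕ} {θ : k → k} (hθ : AddP p θ) (h0 : θ ≠ fun _ => 0) :
    ∃ v : 𝕍 n →+ 𝕍 n, IsPolV (cV n) v ∧ Function.Surjective v ∧ {x | v x = 0}.Finite ∧
      ∀ x, hd (v x) = θ (hd x) := by
  haveI : PerfectRing k p := PerfectField.toPerfectRing p
  rcases n with - | n
  · haveI : Subsingleton (𝕍 0) := ⟨fun x y => TruncatedWittVector.ext fun i => i.elim0⟩
    exact ⟨AddMonoidHom.id _, isPolV_id 0, fun x => ⟨x, rfl⟩, Set.toFinite _,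
      fun x => by rw [hd_length_zero, hd_length_zero, addP_zero_apply hθ]⟩
  have hn : 1 ≤ n + 1 := Nat.le_add_left 1 n
  obtain ⟨g, hg, hgv⟩ := exists_endo₁ (p := p) hθ
  obtain ⟨Φ, hΦ, hΦe⟩ := exists_lift_R 1 g (n + 1) hn
  haveI := hΦ
  have hg1 : g ≠ 1 := fun e => h0 (funext fun a => by
    have h := hgv (single a)
    rw [e, app_one, coeff_single] at h
    simpa using (congrArg (fun z : 𝕍 1 => z.coeff 0) h).symm)
  refine ⟨AddMonoidHom.mk' (app Φ) (app_hom_add Φ), IsMor.isPolV ⟨Φ, rfl⟩, fun y => ?_, ?_, fun x => ?_⟩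
  · obtain ⟨x, hx⟩ := surj_pts hn Φ g hg1 hΦe (pt y)
    exact ⟨pv x, by show app Φ (pv x) = y; rw [app_pv, hx, pv_pt]⟩
  · refine ((finite_ker_pts hn Φ g hg1 hΦe).image pv).subset fun v hv => ⟨pt v, pv_injective ?_, pv_pt v⟩
    rw [pv_one]
    exact hv
  · have h := congrArg (fun f => (app f x).coeff 0) hΦe
    simp only [app_comp, app_R, truncate_one_eq, hgv, coeff_single] at h
    rw [hd_succ, hd_succ]
    exact h.symm

/-- A finite extension is split by an isogeny of the base. -/
theorem exists_split_finite {r : ℕ} {nn : Fin r → ℕ} (c : ℙ nn → ℙ nn → k)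
    (hm : (fun z : _ × _ => c z.1 z.2) ∈ polFun (cProd (cP nn) (cP nn))) (hc : IsCoc c)
    {ψ : k → k} (hψ : AddP p ψ) (hψ0 : ψ ≠ fun _ => 0) (β : ℙ nn → k) (hβ : β ∈ polFun (cP nn))
    (hβc : ∀ x y, β (x + y) = β x + β y + ψ (c x y)) :
    ∃ (π : ℙ nn →+ ℙ nn) (w : ℙ nn → k), IsIsog π ∧ w ∈ polFun (cP nn) ∧
      (∀ x y, w (x + y) = w x + w y + c (π x) (π y)) ∧ ∀ x, ψ (w x) = β (π x) := by
  classical
  obtain ⟨φ, h, hφ, hh, e⟩ := decomp_coc r nn c hm hc
  have hcob : ∀ x y, c x y = cob h x y := by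
    intro x y
    rw [e, Finset.sum_eq_zero, zero_add]
    intro i _
    rcases Nat.eq_zero_or_pos (nn i) with h0 | hpos
    · have hS : Subsingleton (𝕍 (nn i)) := by
        rw [h0]; exact ⟨fun x y => TruncatedWittVector.ext fun i => i.elim0⟩
      rw [Subsingleton.elim (y i) 0, carry_zero_right, addP_zero_apply (hφ i)]
    · let ν : 𝕍 (nn i) →+ ℙ nn := AddMonoidHom.single (fun l => 𝕍 (nn l)) i
      have hsum : ∀ v w, ∑ l, φ l (carry (ν v l) (ν w l)) = φ i (carry v w) := fun v w => by
        rw [Finset.sum_eq_single i]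
        · show φ i (carry (Pi.single (M := fun l => 𝕍 (nn l)) i v i) (Pi.single (M := fun l => 𝕍 (nn l)) i w i)) = _
          rw [Pi.single_eq_same, Pi.single_eq_same]
        · intro l _ hl
          show φ l (carry _ (Pi.single (M := fun l => 𝕍 (nn l)) i w l)) = 0
          rw [Pi.single_eq_of_ne hl, carry_zero_right, addP_zero_apply (hφ l)]
        · simp
      have hz : (fun a => ψ (φ i a)) = fun _ => 0 :=
        eq_zero_of_carry hpos (addP_comp hψ (hφ i)) (fun v => -β (ν v) + -ψ (h (ν v))) fun v w => by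
          have h1 := hβc (ν v) (ν w)
          have hS := hψ.hom.map_sub
          change ∀ a b, ψ (a - b) = ψ a - ψ b at hS
          rw [e, hsum, ← map_add] at h1
          simp only [cob, hψ.map_add, hS, ← map_add] at h1 ⊢
          linear_combination -h1
      have hi : φ i = fun _ => 0 := by
        by_contra hne
        refine hψ0 (funext fun b => ?_)
        obtain ⟨a, rfl⟩ := addP_surjective (hφ i) hne b
        exact congrFun hz a
      rw [hi]
  let L : ℙ nn → k := fun x => β x + ψ (h x)
  have hL : ∀ x y, L (x + y) = L x + L y := fun x y => by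
    have h1 := hβc x y
    have hS := hψ.hom.map_sub
    change ∀ a b, ψ (a - b) = ψ a - ψ b at hS
    rw [hcob] at h1
    simp only [cob, hψ.map_add, hS] at h1
    simp only [L]
    linear_combination h1
  have hLm : L ∈ polFun (cP nn) := add_mem' hβ (addP_mem hψ hh)
  have hsingle : ∀ i l, IsPolV (cV (nn i)) (fun v => (Pi.single (M := fun l => 𝕍 (nn l)) i v : ℙ nn) l) := by
    intro i l
    by_cases hl : l = i
    · subst hl
      simp only [Pi.single_eq_same]
      exact isPolV_id _
    · simp only [Pi.single_eq_of_ne hl]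
      exact isPolV_zero _
  choose θ hθ hθL using fun i => exists_hd (fun v => L (Pi.single (M := fun l => 𝕍 (nn l)) i v))
    (comp_mem (fun t => hsingle i t.1 t.2) hLm) (fun v w => by rw [Pi.single_add, hL])
  choose θ' M hθ' hM hθ'0 heq using fun i => ore (hθ i) hψ hψ0
  choose v hv hvs hvf hvh using fun i => exists_endo_hd (n := nn i) (hθ' i) (hθ'0 i)
  let π : ℙ nn →+ ℙ nn := AddMonoidHom.mk' (fun x l => v l (x l)) fun x y => funext fun l => map_add _ _ _
  have hπ : IsPolP (fun x => π x) := fun l => IsPolV.comp₁ (isPolV_proj nn l) (hv l)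
  refine ⟨π, fun x => ∑ l, M l (hd (x l)) - h (π x), ⟨hπ, fun y => ?_, ?_⟩, ?_, fun x y => ?_, fun x => ?_⟩
  · choose x hx using fun l => hvs l (y l)
    exact ⟨x, funext hx⟩
  · exact (Set.Finite.pi fun l => hvf l).subset fun x hx l _ => congrFun hx l
  · exact sub_mem' (sum_mem' _ fun l _ => addP_mem (hM l) (comp_mem (fun t => isPolV_proj nn l t) (hd_mem _)))
      (hπ.comp_pol hh)
  · simp only [hcob, cob, map_add, Pi.add_apply, hd_add, (hM _).map_add, Finset.sum_add_distrib]
    ring
  · have hS := hψ.hom.map_sub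
    change ∀ a b, ψ (a - b) = ψ a - ψ b at hS
    have hsum : L (π x) = ∑ l, L (Pi.single (M := fun l => 𝕍 (nn l)) l (π x l)) := by
      conv_lhs => rw [← Finset.univ_sum_single (π x)]
      exact map_sum (AddMonoidHom.mk' L hL) _ _
    have h2 : ∑ l, ψ (M l (hd (x l))) = L (π x) := by
      rw [hsum]
      refine Finset.sum_congr rfl fun l _ => ?_
      rw [hθL, ← heq l]
      exact congrArg (θ l) (hvh l (x l)).symm
    rw [hS, show ψ (∑ l, M l (hd (x l))) = ∑ l, ψ (M l (hd (x l))) from map_sum hψ.hom _ _, h2]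
    exact add_sub_cancel_right _ _

end Groth.Agent.UnipIsogLib
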