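import Groth.Agent.UnipIsogLib.Pol
import Mathlib

/-! Common multiples of additive polynomials and their action on the standard carry classes. -/

set_option autoImplicit false
set_option backward.isDefEq.respectTransparency false
universe u

open CategoryTheory AlgebraicGeometry MonObj
open Groth.Agent.WittHomLib Groth.Agent.WittExtLib

noncomputable section

namespace Groth.Agent.UnipIsogLib

variable {p : ℕ} [hp : Fact p.Prime] {k : Type u} [Field k] [CharP k p]

theorem addP_zero_apply {φ : k → k} (h : AddP p φ) : φ 0 = 0 := h.hom.map_zero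

theorem addP_id : AddP p (fun a : k => a) := by
  simpa using AddP.monomial (p := p) (1 : k) 0

theorem addP_comp {φ ψ : k → k} (hφ : AddP p φ) (hψ : AddP p ψ) : AddP p (fun a => φ (ψ a)) := by
  induction hφ with
  | zero => exact AddP.zero
  | monomial c i =>
    haveI : ExpChar k p := ExpChar.prime hp.out
    induction hψ with
    | zero =>
      have h : (0 : k) ^ p ^ i = 0 := zero_pow (pow_ne_zero i hp.out.ne_zero)
      simpa [h] using AddP.zero
    | monomial d j =>
      convert AddP.monomial (p := p) (c * d ^ p ^ i) (j + i) using 1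
      funext a
      show c * (d * a ^ p ^ j) ^ p ^ i = _
      rw [mul_pow, ← pow_mul, ← pow_add, _root_.mul_assoc]
    | add _ _ hf hg => simpa only [add_pow_expChar_pow, mul_add] using hf.add hg
  | add _ _ hf hg => exact hf.add hg

theorem addP_smul {φ : k → k} (hφ : AddP p φ) (c : k) : AddP p (fun a => c * φ a) := by
  simpa using addP_comp (AddP.monomial (p := p) c 0) hφ

theorem addP_pow {φ : k → k} (hφ : AddP p φ) (j : ℕ) : AddP p (fun a => φ a ^ p ^ j) := by
  simpa using addP_comp (AddP.monomial (p := p) (1 : k) j) hφ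

theorem addP_neg {φ : k → k} (hφ : AddP p φ) : AddP p (fun a => -φ a) := by
  simpa using addP_smul hφ (-1)

theorem addP_mem {φ : k → k} (hφ : AddP p φ) {X : Type*} {σ : Type} {c : σ → X → k} {f : X → k}
    (hf : f ∈ polFun c) : (fun x => φ (f x)) ∈ polFun c := by
  obtain ⟨P, hP⟩ := hφ.exists_poly
  have e : (fun x => φ (f x)) = Polynomial.aeval f P := funext fun x => by
    rw [hP]
    induction P using Polynomial.induction_on' with
    | add a b ha hb => simp [ha, hb]
    | monomial n a => simp [Polynomial.aeval_monomial]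
  rw [e]
  exact Algebra.adjoin_le (Set.singleton_subset_iff.mpr hf) (Polynomial.aeval_mem_adjoin_singleton k f)

theorem exists_poly_ne {φ : k → k} (hφ : AddP p φ) (h : φ ≠ fun _ => 0) :
    ∃ P : Polynomial k, P ≠ 0 ∧ P.natDegree ≠ 0 ∧ ∀ a, φ a = P.eval a := by
  obtain ⟨P, hP⟩ := hφ.exists_poly
  have hP0 : P ≠ 0 := fun e => h (funext fun a => by rw [hP, e, Polynomial.eval_zero])
  refine ⟨P, hP0, fun e => hP0 ?_, hP⟩
  rw [Polynomial.eq_C_of_natDegree_eq_zero e] at hP ⊢
  have := hP 0
  rw [addP_zero_apply hφ, Polynomial.eval_C] at this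
  rw [← this, map_zero]

theorem finite_zeros {φ : k → k} (hφ : AddP p φ) (h : φ ≠ fun _ => 0) : {a | φ a = 0}.Finite := by
  obtain ⟨P, hP0, -, hP⟩ := exists_poly_ne hφ h
  simp only [hP]
  exact Polynomial.finite_setOfPred_isRoot hP0

section Surj

variable [IsAlgClosed k]

theorem addP_surjective {φ : k → k} (hφ : AddP p φ) (h : φ ≠ fun _ => 0) : Function.Surjective φ := by
  obtain ⟨P, -, hd, hP⟩ := exists_poly_ne hφ h
  intro b
  obtain ⟨a, ha⟩ := IsAlgClosed.exists_root (P - Polynomial.C b) (by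
    rw [Polynomial.degree_sub_C]
    · exact fun e => hd (Polynomial.natDegree_eq_zero_iff_degree_le_zero.mpr e.le)
    · exact Polynomial.natDegree_pos_iff_degree_pos.mp (Nat.pos_of_ne_zero hd))
  exact ⟨a, by rw [hP]; simpa [sub_eq_zero] using ha⟩

/-- An additive polynomial function of degree less than `p ^ N`. -/
def DegLt (φ : k → k) (N : ℕ) : Prop := ∃ c : ℕ → k, ∀ a, φ a = ∑ i ∈ Finset.range N, c i * a ^ p ^ i

omit [IsAlgClosed k] in
theorem DegLt.addP {φ : k → k} {N : ℕ} (h : DegLt (p := p) φ N) : AddP p φ := by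
  obtain ⟨c, hc⟩ := h
  rw [show φ = fun a => ∑ i ∈ Finset.range N, c i * a ^ p ^ i from funext hc]
  exact addP_sum N c

omit [IsAlgClosed k] in
theorem exists_degLt {φ : k → k} (hφ : AddP p φ) : ∃ N, DegLt (p := p) φ N := by
  induction hφ with
  | zero => exact ⟨0, fun _ => 0, fun a => by simp⟩
  | monomial c i =>
    refine ⟨i + 1, fun j => if j = i then c else 0, fun a => ?_⟩
    simp [ite_mul, Finset.sum_ite_eq']
  | add _ _ hf hg =>
    obtain ⟨N, c, hc⟩ := hf
    obtain ⟨N', c', hc'⟩ := hg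
    refine ⟨max N N', fun i => (if i < N then c i else 0) + (if i < N' then c' i else 0), fun a => ?_⟩
    have ext' : ∀ (M : ℕ) (d : ℕ → k), M ≤ max N N' → ∑ i ∈ Finset.range M, d i * a ^ p ^ i =
        ∑ i ∈ Finset.range (max N N'), (if i < M then d i else 0) * a ^ p ^ i := fun M d hM => by
      simp only [ite_mul, zero_mul, ← Finset.mem_range, Finset.sum_ite_mem]
      rw [Finset.inter_eq_right.mpr (Finset.range_mono hM)]
    simp only [hc, hc', add_mul, Finset.sum_add_distrib]
    rw [← ext' N c (le_max_left _ _), ← ext' N' c' (le_max_right _ _)]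

theorem exists_cancel_top {φ ψ : k → k} {M j : ℕ} {d : ℕ → k} (hd : d M ≠ 0)
    (hψ : ∀ a, ψ a = ∑ i ∈ Finset.range (M + 1), d i * a ^ p ^ i) (hφ : DegLt (p := p) φ (j + (M + 1))) :
    ∃ e : k, DegLt (p := p) (fun a => φ a - ψ (e * a ^ p ^ j)) (j + M) := by
  obtain ⟨c, hc⟩ := hφ
  obtain ⟨e, he⟩ := IsAlgClosed.exists_pow_nat_eq (c (j + M) / d M) (pow_pos hp.out.pos M)
  refine ⟨e, fun i => c i - if j ≤ i then d (i - j) * e ^ p ^ (i - j) else 0, fun a => ?_⟩
  have h1 : ψ (e * a ^ p ^ j) = ∑ i ∈ Finset.range (j + (M + 1)),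
      (if j ≤ i then d (i - j) * e ^ p ^ (i - j) else 0) * a ^ p ^ i := by
    rw [hψ, Finset.sum_range_add _ j (M + 1),
      Finset.sum_eq_zero (s := Finset.range j) (fun i hi => by
        rw [if_neg (not_le.mpr (Finset.mem_range.mp hi)), zero_mul]), zero_add]
    refine Finset.sum_congr rfl fun i _ => ?_
    rw [if_pos (Nat.le_add_right j i), Nat.add_sub_cancel_left, mul_pow, ← pow_mul, ← pow_add, _root_.mul_assoc]
  show φ a - ψ (e * a ^ p ^ j) = _
  rw [h1, hc, ← Finset.sum_sub_distrib, show j + (M + 1) = j + M + 1 from rfl, Finset.sum_range_succ,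
    if_pos (Nat.le_add_right j M), Nat.add_sub_cancel_left, he, mul_div_cancel₀ _ hd, sub_self, add_zero]
  simp only [sub_mul]

theorem ore_aux : ∀ (s N N' : ℕ) (φ ψ : k → k), N + N' ≤ s → DegLt (p := p) φ N → DegLt (p := p) ψ N' →
    ψ ≠ (fun _ => 0) →
    ∃ θ M : k → k, AddP p θ ∧ AddP p M ∧ θ ≠ (fun _ => 0) ∧ ∀ a, φ (θ a) = ψ (M a) := by
  intro s
  induction s with
  | zero =>
    intro N N' φ ψ hs _ hψ hne
    obtain ⟨d, hd⟩ := hψ
    exact absurd (funext fun a => by rw [hd, show N' = 0 by omega, Finset.sum_range_zero]) hne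
  | succ s ih =>
    intro N N' φ ψ hs hφ hψ hne
    have h1 : (fun a : k => a) ≠ fun _ => 0 := fun e => one_ne_zero (congrFun e 1)
    obtain ⟨c, hc⟩ := hφ
    obtain ⟨d, hd⟩ := hψ
    rcases N with - | N
    · exact ⟨_, fun _ => 0, addP_id, AddP.zero, h1, fun a => by
        rw [hc, Finset.sum_range_zero, hd]
        exact (Finset.sum_eq_zero fun i _ => by rw [zero_pow (pow_ne_zero i hp.out.ne_zero), mul_zero]).symm⟩
    rcases N' with - | M
    · exact absurd (funext fun a => by rw [hd, Finset.sum_range_zero]) hne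
    by_cases hcN : c N = 0
    · exact ih N (M + 1) φ ψ (by omega) ⟨c, fun a => by rw [hc, Finset.sum_range_succ, hcN, zero_mul, add_zero]⟩
        ⟨d, hd⟩ hne
    by_cases hdM : d M = 0
    · exact ih (N + 1) M φ ψ (by omega) ⟨c, hc⟩ ⟨d, fun a => by rw [hd, Finset.sum_range_succ, hdM, zero_mul, add_zero]⟩
        hne
    rcases le_or_gt M N with hMN | hMN
    · obtain ⟨j, rfl⟩ := Nat.exists_eq_add_of_le' hMN
      obtain ⟨e, he⟩ := exists_cancel_top hdM hd (φ := φ) (j := j) ⟨c, hc⟩
      obtain ⟨θ, K, hθ, hK, hθ0, heq⟩ := ih (j + M) (M + 1) _ ψ (by omega) he ⟨d, hd⟩ hne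
      refine ⟨θ, fun a => K a + e * θ a ^ p ^ j, hθ, hK.add (addP_smul (addP_pow hθ j) e), hθ0, fun a => ?_⟩
      rw [(DegLt.addP ⟨d, hd⟩).map_add, ← heq]
      ring
    · obtain ⟨j, rfl⟩ := Nat.exists_eq_add_of_le' hMN.le
      obtain ⟨e, he⟩ := exists_cancel_top hcN hc (φ := ψ) (j := j) ⟨d, hd⟩
      have hmono : AddP p (fun a : k => e * a ^ p ^ j) := AddP.monomial e j
      have hF : ∀ x y, φ (x + y) = φ x + φ y := (DegLt.addP ⟨c, hc⟩).map_add
      by_cases hψ' : (fun a => ψ a - φ (e * a ^ p ^ j)) = fun _ => 0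
      · refine ⟨_, _, hmono, addP_id, fun h0 => hne (funext fun a => ?_), fun a => (sub_eq_zero.mp (congrFun hψ' a)).symm⟩
        rw [sub_eq_zero.mp (congrFun hψ' a), congrFun h0 a]
        exact addP_zero_apply (DegLt.addP ⟨c, hc⟩)
      obtain ⟨θ, K, hθ, hK, hθ0, heq⟩ := ih (N + 1) (j + N) φ _ (by omega) ⟨c, hc⟩ he hψ'
      refine ⟨fun a => θ a + e * K a ^ p ^ j, K, hθ.add (addP_smul (addP_pow hK j) e), hK, fun h0 => hθ0 ?_,
        fun a => by rw [hF, heq, sub_add_cancel]⟩
      have hK0 : K = fun _ => 0 := by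
        by_contra hK0
        refine hne (funext fun b => ?_)
        obtain ⟨a, rfl⟩ := addP_surjective hK hK0 b
        have h := heq a
        rw [eq_sub_iff_add_eq, ← hF] at h
        rw [← h, congrFun h0 a]
        exact addP_zero_apply (DegLt.addP ⟨c, hc⟩)
      refine funext fun a => ?_
      have h := congrFun h0 a
      simpa [congrFun hK0 a, zero_pow (pow_ne_zero j hp.out.ne_zero)] using h

/-- Right common multiples. -/
theorem ore {φ ψ : k → k} (hφ : AddP p φ) (hψ : AddP p ψ) (hne : ψ ≠ fun _ => 0) :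
    ∃ θ M : k → k, AddP p θ ∧ AddP p M ∧ θ ≠ (fun _ => 0) ∧ ∀ a, φ (θ a) = ψ (M a) := by
  obtain ⟨N, hN⟩ := exists_degLt hφ
  obtain ⟨N', hN'⟩ := exists_degLt hψ
  exact ore_aux _ N N' φ ψ le_rfl hN hN' hne

local notation "𝕍" n:max => TruncatedWittVector p n k

theorem carry_zero_right {n : ℕ} (x : 𝕍 n) : carry x 0 = 0 := (isCoc_carry n).zero x

/-- The standard class is free. -/
theorem eq_zero_of_carry {n : ℕ} (hn : 1 ≤ n) {φ : k → k} (hφ : AddP p φ) (h : 𝕍 n → k)
    (e : ∀ x y, φ (carry x y) = cob h x y) : φ = fun _ => 0 := by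
  have key : ∀ (x : 𝕍 n) (m : ℕ), φ (last (m • ext0 x)) = m • h x + h 0 - h (m • x) := by
    intro x m
    induction m with
    | zero =>
      rw [zero_smul, zero_smul, zero_smul, zero_add, sub_self,
        show last (0 : 𝕍 (n + 1)) = 0 from TruncatedWittVector.coeff_zero p (n + 1) k _, addP_zero_apply hφ]
    | succ m ih =>
      rw [succ_nsmul, succ_nsmul, succ_nsmul, last_add, map_nsmul, truncate_ext0, last_ext0, add_zero, hφ.map_add,
        ih, e, cob]
      abel
  have hzero : ∀ (x : 𝕍 n), p ^ n • x = 0 := fun x => TruncatedWittVector.ext fun i => by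
    rw [coeff_pow_nsmul, dif_neg (by omega), TruncatedWittVector.coeff_zero]
  refine funext fun b => ?_
  obtain ⟨a, rfl⟩ := IsAlgClosed.exists_pow_nat_eq b (pow_pos hp.out.pos n)
  let x : 𝕍 n := TruncatedWittVector.mk p fun _ => a
  have h1 := key x (p ^ n)
  have hk : p ^ n • h x = 0 := by
    rw [nsmul_eq_mul, Nat.cast_pow, CharP.cast_eq_zero, zero_pow (by omega), zero_mul]
  rw [hzero, add_sub_cancel_right, hk, last, coeff_pow_nsmul, dif_pos (by simp)] at h1
  rw [← h1]
  congr 2
  have e0 : (⟨(Fin.last n : ℕ) - n, by omega⟩ : Fin (n + 1)) = Fin.castSucc ⟨0, hn⟩ :=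
    Fin.ext (show (Fin.last n : ℕ) - n = 0 by simp)
  rw [e0, coeff_ext0_castSucc, TruncatedWittVector.coeff_mk]

/-- Every additive polynomial acts on the standard class through an endomorphism. -/
theorem exists_endo {m : ℕ} {θ : k → k} (hθ : AddP p θ) :
    ∃ (T : 𝕍 m →+ 𝕍 m) (h : 𝕍 m → k), IsPolV (cV m) T ∧ h ∈ polFun (cV m) ∧
      (∀ x y, θ (carry x y) = carry (T x) (T y) + cob h x y) ∧
      (θ ≠ (fun _ => 0) → Function.Surjective T ∧ {v | T v = 0}.Finite) := by
  haveI : PerfectRing k p := PerfectField.toPerfectRing p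
  rcases Nat.eq_zero_or_pos m with rfl | hm
  · haveI : Subsingleton (𝕍 0) := ⟨fun x y => TruncatedWittVector.ext fun i => i.elim0⟩
    refine ⟨AddMonoidHom.id _, fun _ => 0, isPolV_id 0, const_mem _ 0, fun x y => ?_, fun _ => ⟨fun x => ⟨x, rfl⟩,
      Set.toFinite _⟩⟩
    rw [Subsingleton.elim y 0, carry_zero_right, AddMonoidHom.id_apply, AddMonoidHom.id_apply, addP_zero_apply hθ,
      carry_zero_right]
    simp [cob]
  obtain ⟨g, hg, hgv⟩ := exists_endo₁ (p := p) hθ
  obtain ⟨Φ, hΦ, hΦe⟩ := exists_extend_V 1 g (m + 1) (Nat.le_add_left 1 m)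
  haveI := hΦ
  have hVR : WittGrp.V p (Spec (CommRingCat.of k)) (Nat.le_add_left 1 m) ≫
      WittGrp.R p (Spec (CommRingCat.of k)) (Nat.le_succ m) = 1 := by
    have h := comp_V_comp_R (p := p) (S := Spec (CommRingCat.of k)) (Nat.le_succ m) (Nat.le_add_left 1 m) rfl (𝟙 _)
    rwa [Category.id_comp] at h
  obtain ⟨T, hT, hTe⟩ := factor_R (Nat.le_succ m) (Nat.le_add_left 1 m) rfl
    (Φ ≫ WittGrp.R p (Spec (CommRingCat.of k)) (Nat.le_succ m)) (by
      rw [← Category.assoc, ← hΦe, Category.assoc, hVR, MonObj.comp_one])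
  haveI := hT
  have hΦtop : ∀ a, app Φ (top m a) = top m (θ a) := fun a => by
    have h := congrArg (fun f => app f (single (p := p) a)) hΦe
    simp only [app_comp, app_V, hgv, coeff_single] at h
    exact h.symm
  have htr : ∀ z, TruncatedWittVector.truncate (Nat.le_succ m) (app Φ z) =
      app T (TruncatedWittVector.truncate (Nat.le_succ m) z) := fun z => by
    have h := congrArg (fun f => app f z) hTe
    simp only [app_comp, app_R] at h
    exact h.symm
  refine ⟨AddMonoidHom.mk' (app T) (app_hom_add T), fun x => last (app Φ (ext0 x)), IsMor.isPolV ⟨T, rfl⟩, ?_, ?_, ?_⟩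
  · refine single_coeff_mem (p := p) ?_
    exact IsMor.isPolV (isMor_last.comp (IsMor.comp (f := app Φ) ⟨Φ, rfl⟩ isMor_ext0))
  · intro x y
    show θ (carry x y) = carry (app T x) (app T y) + cob (fun x => last (app Φ (ext0 x))) x y
    have h := congrArg (fun z => last (app Φ z)) (ext0_add_ext0 x y)
    simp only [app_hom_add, last_add, htr, truncate_ext0, hΦtop, truncate_top, carry_zero_right, coeff_top_last,
      zero_add] at h
    simp only [cob]
    linear_combination -h
  · intro hne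
    have hTR : T ≫ WittGrp.R p (Spec (CommRingCat.of k)) hm ≠ 1 := by
      intro h1
      obtain ⟨h', hh', hh'e⟩ := factor_V (Nat.le_add_left 1 m) (Nat.le_succ m) (Nat.add_comm 1 m) Φ (by
        rw [← R_comp hm (Nat.le_succ m), ← Category.assoc, ← hTe, Category.assoc, h1, MonObj.comp_one])
      refine hne (funext fun a => ?_)
      rw [← coeff_top_last (p := p) m (θ a), ← hΦtop, ← hh'e, app_comp]
      have h2 : app h' (top m a) = 0 := by
        have h3 := congrArg (fun f => app f (single (p := p) a)) (V_comp_hom (Nat.le_add_left 1 m) rfl h')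
        simp only [app_comp, app_V, app_one] at h3
        exact h3
      rw [h2, app_V, map_zero]
      exact TruncatedWittVector.coeff_zero p (m + 1) k _
    have hm1 : 1 + (m - 1) = m := by omega
    obtain ⟨g', hg', hg'e⟩ := factor_R hm (Nat.sub_le m 1) hm1 (T ≫ WittGrp.R p (Spec (CommRingCat.of k)) hm)
      (V_comp_hom (Nat.sub_le m 1) hm1 _)
    have hg1 : g' ≠ 1 := fun e => hTR (by rw [← hg'e, e, MonObj.comp_one])
    refine ⟨fun y => ?_, ?_⟩
    · obtain ⟨x, hx⟩ := surj_pts hm T g' hg1 hg'e (pt y)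
      exact ⟨pv x, by show app T (pv x) = y; rw [app_pv, hx, pv_pt]⟩
    · refine ((finite_ker_pts hm T g' hg1 hg'e).image pv).subset fun v hv => ⟨pt v, pv_injective ?_, pv_pt v⟩
      rw [pv_one]
      exact hv

end Surj

end Groth.Agent.UnipIsogLib
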