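import Groth.Agent.WittExtLib.Ext
import Mathlib

/-! Polynomial functions on finite products of Witt groups over a field. -/

set_option autoImplicit false
set_option backward.isDefEq.respectTransparency false
universe u v w

open CategoryTheory AlgebraicGeometry MonObj
open Groth.Agent.WittHomLib Groth.Agent.WittExtLib

noncomputable section

namespace Groth.Agent.UnipIsogLib

section Generic

variable {k : Type u} [Field k] {X : Type v} {Y : Type w} {σ τ : Type}

/-- The functions polynomial in given coordinates. -/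
def polFun (c : σ → X → k) : Subalgebra k (X → k) := Algebra.adjoin k (Set.range c)

theorem coord_mem (c : σ → X → k) (s : σ) : c s ∈ polFun c := Algebra.subset_adjoin ⟨s, rfl⟩

theorem const_mem (c : σ → X → k) (a : k) : (fun _ => a) ∈ polFun c := (polFun c).algebraMap_mem a

theorem comp_mem {c : σ → X → k} {c' : τ → Y → k} {Φ : X → Y} (hΦ : ∀ t, (fun x => c' t (Φ x)) ∈ polFun c)
    {f : Y → k} (hf : f ∈ polFun c') : (fun x => f (Φ x)) ∈ polFun c := by
  induction hf using Algebra.adjoin_induction with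
  | mem f hf =>
    obtain ⟨t, rfl⟩ := hf
    exact hΦ t
  | algebraMap a => exact const_mem c a
  | add f g _ _ hf hg => exact add_mem hf hg
  | mul f g _ _ hf hg => exact mul_mem hf hg

theorem eval_mem {c : σ → X → k} {ν : Type*} (P : MvPolynomial ν k) {g : ν → X → k}
    (hg : ∀ s, g s ∈ polFun c) : (fun x => MvPolynomial.eval (fun s => g s x) P) ∈ polFun c := by
  induction P using MvPolynomial.induction_on with
  | C a => simpa only [MvPolynomial.eval_C] using const_mem c a
  | add P Q hP hQ => simp only [map_add]; exact add_mem hP hQ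
  | mul_X P s hP =>
    simp only [map_mul, MvPolynomial.eval_X]
    exact mul_mem hP (hg s)

theorem exists_poly {c : σ → X → k} {f : X → k} (hf : f ∈ polFun c) :
    ∃ P : MvPolynomial σ k, ∀ x, f x = MvPolynomial.eval (fun s => c s x) P := by
  induction hf using Algebra.adjoin_induction with
  | mem f hf =>
    obtain ⟨s, rfl⟩ := hf
    exact ⟨MvPolynomial.X s, fun x => (MvPolynomial.eval_X (f := fun s => c s x) s).symm⟩
  | algebraMap a => exact ⟨MvPolynomial.C a, fun x => (MvPolynomial.eval_C a).symm⟩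
  | add f g _ _ hf hg =>
    obtain ⟨P, hP⟩ := hf
    obtain ⟨Q, hQ⟩ := hg
    exact ⟨P + Q, fun x => by simp [hP, hQ]⟩
  | mul f g _ _ hf hg =>
    obtain ⟨P, hP⟩ := hf
    obtain ⟨Q, hQ⟩ := hg
    exact ⟨P * Q, fun x => by simp [hP, hQ]⟩

/-- Coordinates on a product. -/
def cProd (c : σ → X → k) (c' : τ → Y → k) : σ ⊕ τ → X × Y → k :=
  Sum.elim (fun s z => c s z.1) fun t z => c' t z.2

theorem fst_mem {c : σ → X → k} (c' : τ → Y → k) {f : X → k} (hf : f ∈ polFun c) :
    (fun z : X × Y => f z.1) ∈ polFun (cProd c c') :=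
  comp_mem (Φ := Prod.fst) (fun s => coord_mem (cProd c c') (Sum.inl s)) hf

theorem snd_mem (c : σ → X → k) {c' : τ → Y → k} {f : Y → k} (hf : f ∈ polFun c') :
    (fun z : X × Y => f z.2) ∈ polFun (cProd c c') :=
  comp_mem (Φ := Prod.snd) (fun s => coord_mem (cProd c c') (Sum.inr s)) hf

theorem pair_comp_mem {c : σ → X → k} {Z : Type*} {ν ν' : Type} {d : ν → Y → k} {d' : ν' → Z → k}
    {a : X → Y} {b : X → Z} (ha : ∀ s, (fun x => d s (a x)) ∈ polFun c) (hb : ∀ s, (fun x => d' s (b x)) ∈ polFun c)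
    {f : Y × Z → k} (hf : f ∈ polFun (cProd d d')) : (fun x => f (a x, b x)) ∈ polFun c :=
  comp_mem (Φ := fun x => (a x, b x)) (fun | .inl s => ha s | .inr s => hb s) hf

end Generic

variable {p : ℕ} [hp : Fact p.Prime] {k : Type u} [Field k]

local notation "𝕍" n:max => TruncatedWittVector p n k

/-- The coordinates of a Witt vector. -/
def cV (n : ℕ) : Fin n → (TruncatedWittVector p n k) → k := fun l v => v.coeff l

variable (p k) in
/-- The rational points of a product of Witt groups. -/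
abbrev Pts {r : ℕ} (nn : Fin r → ℕ) : Type u := (i : Fin r) → TruncatedWittVector p (nn i) k

/-- The coordinates on a product of Witt groups. -/
def cP {r : ℕ} (nn : Fin r → ℕ) : (Σ i, Fin (nn i)) → Pts p k nn → k := fun s x => (x s.1).coeff s.2

/-- A polynomial map to a Witt group. -/
def IsPolV {X : Type v} {σ : Type} (c : σ → X → k) {m : ℕ} (f : X → 𝕍 m) : Prop :=
  ∀ l, (fun x => (f x).coeff l) ∈ polFun c

theorem isPolV_id (n : ℕ) : IsPolV (cV (p := p) (k := k) n) (fun x => x) := fun l => coord_mem _ l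

theorem isPolV_proj {r : ℕ} (nn : Fin r → ℕ) (i : Fin r) : IsPolV (cP (p := p) (k := k) nn) (fun x => x i) :=
  fun l => coord_mem (cP nn) ⟨i, l⟩

theorem isPolV_zero {X : Type v} {σ : Type} (c : σ → X → k) {m : ℕ} : IsPolV c (fun _ => (0 : 𝕍 m)) :=
  fun l => by simpa only [TruncatedWittVector.coeff_zero] using const_mem c 0

theorem IsPolV.comp {X : Type v} {Y : Type w} {σ τ : Type} {c : σ → X → k} {c' : τ → Y → k} {Φ : X → Y}
    (hΦ : ∀ t, (fun x => c' t (Φ x)) ∈ polFun c) {m : ℕ} {f : Y → 𝕍 m} (hf : IsPolV c' f) :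
    IsPolV c (fun x => f (Φ x)) := fun l => comp_mem hΦ (hf l)

theorem IsPolV.comp₁ {X : Type v} {σ : Type} {c : σ → X → k} {n m : ℕ} {a : X → 𝕍 n} (ha : IsPolV c a)
    {f : 𝕍 n → 𝕍 m} (hf : IsPolV (cV n) f) : IsPolV c (fun x => f (a x)) :=
  IsPolV.comp (Φ := a) ha hf

theorem IsPolV.comp₂ {X : Type v} {σ : Type} {c : σ → X → k} {n n' m : ℕ} {a : X → 𝕍 n} (ha : IsPolV c a)
    {b : X → 𝕍 n'} (hb : IsPolV c b) {f : 𝕍 n → 𝕍 n' → 𝕍 m}
    (hf : IsPolV (cProd (cV n) (cV n')) (fun z => f z.1 z.2)) : IsPolV c (fun x => f (a x) (b x)) :=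
  fun l => pair_comp_mem ha hb (hf l)

theorem single_coeff_mem {X : Type v} {σ : Type} {c : σ → X → k} {f : X → k}
    (h : IsPolV c (fun x => single (p := p) (f x))) : f ∈ polFun c := by
  simpa only [coeff_single] using h 0

theorem isPolV_single {X : Type v} {σ : Type} {c : σ → X → k} {f : X → k} (h : f ∈ polFun c) :
    IsPolV c (fun x => single (p := p) (f x)) := fun l => by simpa only [coeff_single] using h

section Bridge

variable [CharP k p]

theorem IsMor.isPolV {n m : ℕ} {f : 𝕍 n → 𝕍 m} (hf : IsMor f) : IsPolV (cV n) f := by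
  obtain ⟨g, rfl⟩ := hf
  intro l
  have e : (fun v => (app g v).coeff l) = fun v => MvPolynomial.eval (fun j => cv (pt v) j.down)
      ((coordEquiv p n k).hom ((vec g).coeff l)) := funext fun v => by
    rw [app, coeff_pv, cv_comp, MvPolynomial.aeval_eq_eval]
  rw [e]
  refine eval_mem _ fun j => ?_
  simp only [pt, cv_mkPt]
  exact coord_mem (cV n) j.down

theorem IsMor₂.isPolV {n m : ℕ} {f : 𝕍 n → 𝕍 n → 𝕍 m} (hf : IsMor₂ f) :
    IsPolV (cProd (cV n) (cV n)) (fun z => f z.1 z.2) := by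
  obtain ⟨g, hg⟩ := hf
  intro l
  have e : (fun z : 𝕍 n × 𝕍 n => (f z.1 z.2).coeff l) = fun z => MvPolynomial.eval
      (fun j => Fin.append z.1.coeff z.2.coeff j.down) ((coordEquiv p (n + n) k).hom ((vec g).coeff l)) :=
    funext fun z => by
      have h := hg (pt z.1) (pt z.2)
      rw [pv_pt, pv_pt] at h
      rw [← h, coeff_pv, cv_comp, MvPolynomial.aeval_eq_eval]
      refine congrArg (fun w : ULift.{u} (Fin (n + n)) → k => MvPolynomial.eval w _) (funext fun j => ?_)
      obtain ⟨j⟩ := j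
      rw [cv, catPt, vec_ofVec, TruncatedWittVector.coeff_mk]
      induction j using Fin.addCases with
      | left i => rw [Fin.append_left, Fin.append_left, ← cv, pt, cv_mkPt]
      | right i => rw [Fin.append_right, Fin.append_right, ← cv, pt, cv_mkPt]
  rw [e]
  refine eval_mem _ fun j => ?_
  obtain ⟨j⟩ := j
  induction j using Fin.addCases with
  | left i => simp only [Fin.append_left]; exact coord_mem (cProd (cV n) (cV n)) (Sum.inl i)
  | right i => simp only [Fin.append_right]; exact coord_mem (cProd (cV n) (cV n)) (Sum.inr i)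

theorem IsPolV.isMor {n m : ℕ} {f : 𝕍 n → 𝕍 m} (hf : IsPolV (cV n) f) : IsMor f := by
  choose P hP using fun l => exists_poly (hf l)
  exact isMor_of_poly f P fun v i => hP i v

theorem IsPolV.isMor₂ {n m : ℕ} {f : 𝕍 n → 𝕍 n → 𝕍 m}
    (hf : IsPolV (cProd (cV n) (cV n)) (fun z => f z.1 z.2)) : IsMor₂ f := by
  choose P hP using fun l => exists_poly (hf l)
  refine ⟨ofPoly fun l => MvPolynomial.rename finSumFinEquiv (P l), fun x y => ?_⟩
  refine TruncatedWittVector.ext fun l => ?_
  rw [← app_pv, coeff_app_ofPoly, MvPolynomial.eval_rename]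
  refine Eq.trans ?_ (hP l (pv x, pv y)).symm
  refine congrArg (fun w => MvPolynomial.eval w _) (funext fun s => ?_)
  rcases s with i | i
  · show (pv (catPt x y)).coeff (Fin.castAdd n i) = (pv x).coeff i
    rw [coeff_pv, coeff_pv, cv, catPt, vec_ofVec, TruncatedWittVector.coeff_mk, Fin.append_left]
    rfl
  · show (pv (catPt x y)).coeff (Fin.natAdd n i) = (pv y).coeff i
    rw [coeff_pv, coeff_pv, cv, catPt, vec_ofVec, TruncatedWittVector.coeff_mk, Fin.append_right]
    rfl

theorem IsPolV.add {X : Type v} {σ : Type} {c : σ → X → k} {m : ℕ} {a b : X → 𝕍 m} (ha : IsPolV c a)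
    (hb : IsPolV c b) : IsPolV c (fun x => a x + b x) :=
  IsPolV.comp₂ ha hb (f := fun v w => v + w) (IsMor₂.isPolV isMor₂_add)

theorem IsPolV.sub {X : Type v} {σ : Type} {c : σ → X → k} {m : ℕ} {a b : X → 𝕍 m} (ha : IsPolV c a)
    (hb : IsPolV c b) : IsPolV c (fun x => a x - b x) :=
  IsPolV.comp₂ ha hb (f := fun v w => v - w) (IsMor₂.isPolV (isMor₂_fst.sub isMor₂_snd))

theorem IsPolV.sum {X : Type v} {σ : Type} {c : σ → X → k} {m : ℕ} {ν : Type*} (s : Finset ν) {a : ν → X → 𝕍 m}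
    (ha : ∀ i ∈ s, IsPolV c (a i)) : IsPolV c (fun x => ∑ i ∈ s, a i x) := by
  classical
  induction s using Finset.induction with
  | empty => simpa only [Finset.sum_empty] using isPolV_zero (p := p) c
  | insert i s hi ih =>
    simp only [Finset.sum_insert hi]
    exact (ha i (Finset.mem_insert_self i s)).add (ih fun j hj => ha j (Finset.mem_insert_of_mem hj))

end Bridge

/-- A polynomial map between products of Witt groups. -/
def IsPolP {r s : ℕ} {nn : Fin r → ℕ} {mm : Fin s → ℕ} (π : Pts p k nn → Pts p k mm) : Prop :=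
  ∀ i, IsPolV (cP nn) (fun x => π x i)

theorem IsPolP.mem {r s : ℕ} {nn : Fin r → ℕ} {mm : Fin s → ℕ} {π : Pts p k nn → Pts p k mm} (hπ : IsPolP π)
    (t : Σ i, Fin (mm i)) : (fun x => cP mm t (π x)) ∈ polFun (cP nn) := hπ t.1 t.2

theorem IsPolP.comp_pol {r s : ℕ} {nn : Fin r → ℕ} {mm : Fin s → ℕ} {π : Pts p k nn → Pts p k mm} (hπ : IsPolP π)
    {f : Pts p k mm → k} (hf : f ∈ polFun (cP mm)) : (fun x => f (π x)) ∈ polFun (cP nn) :=
  comp_mem hπ.mem hf

theorem IsPolP.comp_pol₂ {r s : ℕ} {nn : Fin r → ℕ} {mm : Fin s → ℕ} {π : Pts p k nn → Pts p k mm} (hπ : IsPolP π)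
    {f : Pts p k mm → Pts p k mm → k} (hf : (fun z : _ × _ => f z.1 z.2) ∈ polFun (cProd (cP mm) (cP mm))) :
    (fun z : _ × _ => f (π z.1) (π z.2)) ∈ polFun (cProd (cP nn) (cP nn)) :=
  pair_comp_mem (a := fun z : Pts p k nn × Pts p k nn => π z.1) (b := fun z => π z.2) (fun t => fst_mem _ (hπ.mem t)) (fun t => snd_mem _ (hπ.mem t))
    (f := fun z : Pts p k mm × Pts p k mm => f z.1 z.2) hf

theorem isPolP_id {r : ℕ} (nn : Fin r → ℕ) : IsPolP (fun x : Pts p k nn => x) := isPolV_proj nn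

theorem IsPolP.comp {r s t : ℕ} {nn : Fin r → ℕ} {mm : Fin s → ℕ} {ll : Fin t → ℕ} {π : Pts p k nn → Pts p k mm}
    (hπ : IsPolP π) {π' : Pts p k mm → Pts p k ll} (hπ' : IsPolP π') : IsPolP (fun x => π' (π x)) :=
  fun i => IsPolV.comp (Φ := π) hπ.mem (hπ' i)

/-- An isogeny of products of Witt groups, on rational points. -/
structure IsIsog {r s : ℕ} {nn : Fin r → ℕ} {mm : Fin s → ℕ} (π : Pts p k nn →+ Pts p k mm) : Prop where
  pol : IsPolP π
  surj : Function.Surjective π
  fin : {x | π x = 0}.Finite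

theorem isIsog_id {r : ℕ} (nn : Fin r → ℕ) : IsIsog (AddMonoidHom.id (Pts p k nn)) :=
  ⟨isPolP_id nn, fun x => ⟨x, rfl⟩, (Set.finite_singleton 0).subset fun _ hx => hx⟩

theorem finite_preimage_of_ker {A B : Type*} [AddCommGroup A] [AddCommGroup B] (f : A →+ B)
    (hf : {x | f x = 0}.Finite) {S : Set B} (hS : S.Finite) : (f ⁻¹' S).Finite := by
  refine Set.Finite.preimage' hS fun b _ => ?_
  rcases Set.eq_empty_or_nonempty (f ⁻¹' {b}) with h | ⟨a, ha⟩
  · rw [h]; exact Set.finite_empty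
  · refine (hf.image (a + ·)).subset fun x hx => ⟨x - a, ?_, add_sub_cancel _ _⟩
    show f (x - a) = 0
    rw [map_sub, show f x = b from hx, show f a = b from ha, sub_self]

theorem IsIsog.comp {r s t : ℕ} {nn : Fin r → ℕ} {mm : Fin s → ℕ} {ll : Fin t → ℕ} {π : Pts p k nn →+ Pts p k mm}
    (hπ : IsIsog π) {π' : Pts p k mm →+ Pts p k ll} (hπ' : IsIsog π') : IsIsog (π'.comp π) :=
  ⟨hπ.pol.comp hπ'.pol, hπ'.surj.comp hπ.surj, finite_preimage_of_ker π hπ.fin hπ'.fin⟩

end Groth.Agent.UnipIsogLib
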