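import Groth.Agent.UnipIsogLib.ToAff
import Mathlib

/-! A product of Witt groups as a scheme, and its rational points. -/

set_option autoImplicit false
set_option backward.isDefEq.respectTransparency false
universe u

open CategoryTheory CategoryTheory.Limits AlgebraicGeometry MonObj MonoidalCategory CartesianMonoidalCategory
open Groth.Agent.WittHomLib Groth.Agent.WittExtLib

noncomputable section

namespace Groth.Agent.UnipIsogLib

variable {p : ℕ} [hp : Fact p.Prime] {k : Type u} [Field k]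

local notation "B" => Spec (CommRingCat.of k)

theorem κ_ev (c : k) : κ p k (ev (WittGrp.W p 0 B) c) = c := by
  show MvPolynomial.isEmptyAlgEquiv k (ULift.{u} (Fin 0)) ((coordEquiv p 0 k).hom (ev (WittGrp.W p 0 B) c)) = c
  rw [coordEquiv_ev]
  exact (MvPolynomial.isEmptyAlgEquiv k (ULift.{u} (Fin 0))).commutes c

theorem κ_eq_th (x : Γ((WittGrp.W p 0 B).left, ⊤)) :
    κ p k x = th (η : 𝟙_ (Over B) ⟶ WittGrp.W p 0 B) x := by
  obtain ⟨c, rfl⟩ : ∃ c, ev (WittGrp.W p 0 B) c = x := ⟨κ p k x, (κ p k).injective (κ_ev _)⟩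
  rw [κ_ev, th_ev]

theorem κ_appTop {T : Over B} (σ : 𝟙_ (Over B) ⟶ T) (x : Γ(T.left, ⊤)) :
    κ p k ((toUnit (WittGrp.W p 0 B) ≫ σ).left.appTop x) = th σ x := by
  rw [κ_eq_th, ← th_comp, ← Category.assoc, eta_toUnit, Category.id_comp]

variable {r : ℕ} {nn : Fin r → ℕ} {P : Over (Spec (CommRingCat.of k))}

theorem lift_proj {proj : ∀ i : Fin r, P ⟶ WittGrp.W p (nn i) B} (hP : IsLimit (Fan.mk P proj)) {T : Over B}
    (f : ∀ i, T ⟶ WittGrp.W p (nn i) B) (i : Fin r) : Fan.IsLimit.lift hP f ≫ proj i = f i :=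
  Fan.IsLimit.fac hP f i

variable
  (proj : ∀ i : Fin r, P ⟶ WittGrp.W p (nn i) (Spec (CommRingCat.of k)))

/-- The coordinates. -/
def cc (i : Fin r) (l : Fin (nn i)) : Γ(P.left, ⊤) := (vec (proj i)).coeff l

/-- The coordinates of a rational point. -/
def toP (σ : 𝟙_ (Over (Spec (CommRingCat.of k))) ⟶ P) : Pts p k nn := fun i =>
  TruncatedWittVector.mk p fun l => th σ (cc proj i l)

theorem cP_toP (σ : 𝟙_ (Over B) ⟶ P) (s : Σ i, Fin (nn i)) :
    cP nn s (toP proj σ) = th σ (cc proj s.1 s.2) := TruncatedWittVector.coeff_mk _ _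

theorem toP_eq (σ : 𝟙_ (Over B) ⟶ P) (i : Fin r) :
    toP proj σ i = pv ((toUnit (WittGrp.W p 0 B) ≫ σ) ≫ proj i) :=
  TruncatedWittVector.ext fun l => by
    rw [coeff_pv, cv, vec_comp, WittGrp.coeff_truncMap, toP, TruncatedWittVector.coeff_mk]
    exact (κ_appTop σ _).symm

variable [GrpObj P] [hproj : ∀ i, IsMonHom (proj i)]

theorem toP_mul (σ τ : 𝟙_ (Over B) ⟶ P) : toP proj (σ * τ) = toP proj σ + toP proj τ := funext fun i => by
  rw [Pi.add_apply, toP_eq, toP_eq, toP_eq, MonObj.comp_mul, MonObj.mul_comp, pv_mul]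

theorem toP_one : toP proj 1 = 0 := by
  simpa using toP_mul proj 1 1

variable {proj}

theorem toP_bijective (hP : IsLimit (Fan.mk P proj)) : Function.Bijective (toP proj) := by
  refine ⟨fun σ τ h => ?_, fun x => ?_⟩
  · have h1 : toUnit (WittGrp.W p 0 B) ≫ σ = toUnit (WittGrp.W p 0 B) ≫ τ :=
      Fan.IsLimit.hom_ext hP _ _ fun i => by
        refine pv_injective ?_
        show pv ((toUnit _ ≫ σ) ≫ proj i) = pv ((toUnit _ ≫ τ) ≫ proj i)
        rw [← toP_eq, ← toP_eq, h]
    have h2 := congrArg (η ≫ ·) h1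
    simpa only [← Category.assoc, eta_toUnit, Category.id_comp] using h2
  · obtain ⟨z, hz⟩ : ∃ z, ∀ i, z ≫ proj i = pt (x i) := ⟨_, lift_proj hP fun i => pt (x i)⟩
    refine ⟨η ≫ z, funext fun i => ?_⟩
    rw [toP_eq, ← Category.assoc (toUnit _), toUnit_eta, Category.id_comp, show z ≫ proj i = pt (x i) from hz i,
      pv_pt]

variable (proj)

/-- Polynomials in the coordinates as functions. -/
def evP : MvPolynomial (Σ i, Fin (nn i)) k →+* Γ(P.left, ⊤) :=
  MvPolynomial.eval₂Hom (ev P) fun s => cc proj s.1 s.2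

omit [GrpObj P] hproj in
theorem th_evP (σ : 𝟙_ (Over B) ⟶ P) (Q : MvPolynomial (Σ i, Fin (nn i)) k) :
    th σ (evP proj Q) = MvPolynomial.eval (fun s => cP nn s (toP proj σ)) Q := by
  refine RingHom.congr_fun (MvPolynomial.ringHom_ext (f := (th σ).comp (evP proj)) (fun c => ?_) fun s => ?_) Q
  · rw [RingHom.comp_apply, evP, MvPolynomial.eval₂Hom_C, th_ev, MvPolynomial.eval_C]
  · rw [RingHom.comp_apply, evP, MvPolynomial.eval₂Hom_X', MvPolynomial.eval_X, cP_toP]

omit [GrpObj P] hproj in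
theorem evP_C (c : k) : evP proj (MvPolynomial.C c) = ev P c := MvPolynomial.eval₂Hom_C _ _ _

variable {proj}

/-- A product of Witt groups is an affine space. -/
def isoW (hP : IsLimit (Fan.mk P proj)) : P ≅ WittGrp.W p (∑ i, nn i) (Spec (CommRingCat.of k)) where
  hom := ofVec (TruncatedWittVector.mk p fun j => cc proj (finSigmaFinEquiv.symm j).1 (finSigmaFinEquiv.symm j).2)
  inv := Fan.IsLimit.lift hP fun i =>
    ofVec (TruncatedWittVector.mk p fun l => WittGrp.coord p (finSigmaFinEquiv (n := nn) ⟨i, l⟩))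
  hom_inv_id := Fan.IsLimit.hom_ext hP _ _ fun i => by
    show (_ ≫ Fan.IsLimit.lift hP _) ≫ proj i = 𝟙 P ≫ proj i
    rw [Category.id_comp, Category.assoc, lift_proj hP]
    refine vec_injective (TruncatedWittVector.ext fun l => ?_)
    show _ = (vec (proj i)).coeff l
    rw [vec_comp, WittGrp.coeff_truncMap, vec_ofVec, TruncatedWittVector.coeff_mk]
    refine (coeff_vec _ _).symm.trans ?_
    rw [vec_ofVec, TruncatedWittVector.coeff_mk, Equiv.symm_apply_apply]
    rfl
  inv_hom_id := by
    refine vec_injective (TruncatedWittVector.ext fun j => ?_)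
    rw [vec_comp, WittGrp.coeff_truncMap, vec_ofVec, TruncatedWittVector.coeff_mk]
    obtain ⟨⟨i, l⟩, rfl⟩ := (finSigmaFinEquiv (n := nn)).surjective j
    rw [Equiv.symm_apply_apply, cc]
    rw [← WittGrp.coeff_truncMap (p := p), ← vec_comp, lift_proj hP, vec_ofVec, TruncatedWittVector.coeff_mk,
      coeff_vec]
    show _ = (𝟙 (WittGrp.W p (∑ i, nn i) B).left : (WittGrp.W p (∑ i, nn i) B).left ⟶ _).appTop _
    rw [Scheme.Hom.id_appTop]
    rfl

section Props

variable (hP : IsLimit (Fan.mk P proj))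

include hP

omit [GrpObj P] hproj in
theorem prop_P (R : MorphismProperty Scheme.{u}) [R.RespectsIso]
    (h : R (WittGrp.W p (∑ i, nn i) B).hom) : R P.hom := by
  haveI : IsIso (isoW hP).hom.left := ((Over.forget B).mapIso (isoW hP)).isIso_hom
  rw [← Over.w (isoW hP).hom]
  exact (MorphismProperty.cancel_left_of_respectsIso R _ _).mpr h

omit [GrpObj P] hproj in
theorem smooth_P : Smooth P.hom := prop_P hP @Smooth (smooth_W _)

omit [GrpObj P] hproj in
theorem lft_P : LocallyOfFiniteType P.hom :=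
  haveI := smooth_P hP
  inferInstance

omit [GrpObj P] hproj in
theorem isAffineHom_P : IsAffineHom P.hom := prop_P hP @IsAffineHom (isAffineHom_W _)

omit [GrpObj P] hproj in
theorem isAffine_P : IsAffine P.left :=
  haveI := isAffineHom_P hP
  isAffine_of_isAffineHom P.hom

omit [GrpObj P] hproj in
theorem connectedSpace_P : ConnectedSpace ↥P.left := by
  haveI := connectedSpace_W (p := p) (k := k) (∑ i, nn i)
  let e : P.left ≅ (WittGrp.W p (∑ i, nn i) B).left := (Over.forget B).mapIso (isoW hP)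
  let h := e.inv.homeomorph
  exact h.surjective.connectedSpace h.continuous

omit [GrpObj P] hproj in
theorem dim_P : topologicalKrullDim ↥P.left = ((∑ i, nn i : ℕ) : WithBot ℕ∞) := by
  let e : P.left ≅ _ := ((Over.forget B).mapIso (isoW hP) : P.left ≅ (WittGrp.W p (∑ i, nn i) B).left) ≪≫
    AffineSpace.SpecIso (ULift.{u} (Fin (∑ i, nn i))) (CommRingCat.of k)
  rw [e.hom.homeomorph.isHomeomorph.topologicalKrullDim_eq]
  exact (PrimeSpectrum.topologicalKrullDim_eq_ringKrullDim _).trans (by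
    rw [MvPolynomial.ringKrullDim_of_isNoetherianRing, ringKrullDim_eq_zero_of_field, zero_add]
    simp)

omit [GrpObj P] hproj in
theorem evP_bijective : Function.Bijective (evP proj) := by
  let e₁ := coordEquiv p (∑ i, nn i) k
  let ren : ULift.{u} (Fin (∑ i, nn i)) ≃ Σ i, Fin (nn i) := Equiv.ulift.trans (finSigmaFinEquiv (n := nn)).symm
  haveI : IsIso (isoW hP).hom.left := ((Over.forget B).mapIso (isoW hP)).isIso_hom
  let T : MvPolynomial (ULift.{u} (Fin (∑ i, nn i))) k →+* Γ(P.left, ⊤) :=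
    (isoW hP).hom.left.appTop.hom.comp e₁.inv.hom
  have hT : Function.Bijective T :=
    (ConcreteCategory.bijective_of_isIso (isoW hP).hom.left.appTop).comp
      (ConcreteCategory.bijective_of_isIso e₁.inv)
  have hkey : (evP proj).comp (MvPolynomial.rename ren : _ →ₐ[k] MvPolynomial (Σ i, Fin (nn i)) k).toRingHom = T := by
    refine MvPolynomial.ringHom_ext (fun c => ?_) fun j => ?_
    · show evP proj (MvPolynomial.rename ren (MvPolynomial.C c)) = _
      rw [MvPolynomial.rename_C, evP_C]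
      show _ = (isoW hP).hom.left.appTop (e₁.inv (MvPolynomial.C c))
      rw [show e₁.inv (MvPolynomial.C c) = ev (WittGrp.W p (∑ i, nn i) B) c from by
        rw [← coordEquiv_ev (p := p)]
        exact e₁.commRingCatIsoToRingEquiv.symm_apply_apply _, appTop_ev]
    · obtain ⟨j⟩ := j
      show evP proj (MvPolynomial.rename ren (MvPolynomial.X (ULift.up j))) = _
      rw [MvPolynomial.rename_X, evP, MvPolynomial.eval₂Hom_X']
      show _ = (isoW hP).hom.left.appTop (e₁.inv (MvPolynomial.X (ULift.up j)))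
      rw [show e₁.inv (MvPolynomial.X (ULift.up j)) = WittGrp.coord p j from by
        rw [← coordEquiv_coord (p := p)]
        exact e₁.commRingCatIsoToRingEquiv.symm_apply_apply _, ← coeff_vec]
      show _ = (vec (ofVec _)).coeff j
      rw [vec_ofVec, TruncatedWittVector.coeff_mk]
      rfl
  have hren := (MvPolynomial.renameEquiv k ren).bijective
  rw [← hkey] at hT
  exact (Function.Bijective.of_comp_iff (evP proj) hren).mp hT

end Props

/-- Products of Witt groups exist. -/
theorem exists_prod : ∀ (r : ℕ) (nn : Fin r → ℕ), ∃ (P : Over B) (_ : GrpObj P)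
    (proj : ∀ i : Fin r, P ⟶ WittGrp.W p (nn i) B), (∀ i, IsMonHom (proj i)) ∧ Nonempty (IsLimit (Fan.mk P proj)) := by
  intro r
  induction r with
  | zero =>
    intro nn
    exact ⟨WittGrp.W p 0 B, inferInstance, fun i => i.elim0, fun i => i.elim0,
      ⟨Fan.IsLimit.mk _ (fun s => toUnit _ ≫ (η : 𝟙_ (Over B) ⟶ WittGrp.W p 0 B)) (fun s i => i.elim0) fun s m _ => subsingleton_W0 (p := p) (S := B) _ _⟩⟩
  | succ r ih =>
    intro nn
    obtain ⟨P, hPg, proj, hm, ⟨hP⟩⟩ := ih fun i => nn i.succ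
    let Q := WittGrp.W p (nn 0) B ⊗ P
    let pr : ∀ i : Fin (r + 1), Q ⟶ WittGrp.W p (nn i) B := Fin.cons (fst _ _) fun i => snd _ _ ≫ proj i
    refine ⟨Q, inferInstance, pr, fun i => ?_, ⟨Fan.IsLimit.mk _
      (fun s => lift (Fan.proj s 0) (Fan.IsLimit.lift hP fun i => Fan.proj s i.succ)) (fun s i => ?_) fun s m hm' => ?_⟩⟩
    · induction i using Fin.cases with
      | zero => exact inferInstanceAs (IsMonHom (fst (WittGrp.W p (nn 0) B) P))
      | succ i =>
        haveI := hm i
        exact inferInstanceAs (IsMonHom (snd (WittGrp.W p (nn 0) B) P ≫ proj i))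
    · induction i using Fin.cases with
      | zero => exact lift_fst _ _
      | succ i =>
        show lift _ _ ≫ snd _ _ ≫ proj i = _
        rw [← Category.assoc, lift_snd, lift_proj hP]
    · refine CartesianMonoidalCategory.hom_ext _ _ ?_ (Fan.IsLimit.hom_ext hP _ _ fun i => ?_)
      · rw [lift_fst]; exact hm' 0
      · show (m ≫ snd _ _) ≫ proj i = (lift _ _ ≫ snd _ _) ≫ proj i
        rw [lift_snd, lift_proj hP, Category.assoc]
        exact hm' i.succ

end Groth.Agent.UnipIsogLib
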