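import Groth.Agent.UnipIsogLib.FiniteStep
import Groth.Agent.HopfFF.Coinv
import Groth.Agent.HopfPts.Basic
import Groth.Agent.Comodule.PrimUnip
import Groth.Agent.UnipH7.Basic
import Mathlib

/-! Preparations on commutative affine groups through their rational points. -/

set_option autoImplicit false
set_option backward.isDefEq.respectTransparency false
universe u

open TensorProduct WithConv
open Groth.Agent.WittExtLib Groth.Agent.HopfFF Groth.Agent.Comodule

noncomputable section

namespace Groth.Agent.UnipIsogLib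

variable {k : Type u} [Field k] {A : Type u} [CommRing A] [HopfAlgebra k A]

/-- The rational points. -/
abbrev Gpt (k A : Type u) [Field k] [CommRing A] [HopfAlgebra k A] : Type u := WithConv (A →ₐ[k] k)

/-- Evaluation of a tensor at two points. -/
def ev2 (σ τ : Gpt k A) : A ⊗[k] A →ₐ[k] k :=
  Algebra.TensorProduct.lift σ.ofConv τ.ofConv fun _ _ => Commute.all _ _

@[simp] theorem ev2_tmul (σ τ : Gpt k A) (a b : A) : ev2 σ τ (a ⊗ₜ[k] b) = σ.ofConv a * τ.ofConv b :=
  Algebra.TensorProduct.lift_tmul _ _ _ _ _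

theorem mul_pt_apply (σ τ : Gpt k A) (a : A) :
    (σ * τ).ofConv a = ev2 σ τ (Coalgebra.comul (R := k) a) := AlgHom.convMul_apply σ τ a

theorem one_pt_apply (a : A) : (1 : Gpt k A).ofConv a = Coalgebra.counit (R := k) a :=
  (AlgHom.convOne_apply (R := k) (C := A) (A := k) a).trans (by simp)

/-- The inverse of a point. -/
def ptInv (σ : Gpt k A) : Gpt k A := toConv (σ.ofConv.comp (HopfAlgebra.antipodeAlgHom k A))

theorem ptInv_mul (σ : Gpt k A) : ptInv σ * σ = 1 := comp_antipode_left σ.ofConv

theorem mul_ptInv (σ : Gpt k A) : σ * ptInv σ = 1 := comp_antipode_right σ.ofConv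

/-- Agreement on a subalgebra. -/
def Rel (B : Subalgebra k A) (σ τ : Gpt k A) : Prop := ∀ b ∈ B, σ.ofConv b = τ.ofConv b

variable {B : Subalgebra k A}

theorem Rel.refl (σ : Gpt k A) : Rel B σ σ := fun _ _ => rfl
theorem Rel.symm {σ τ : Gpt k A} (h : Rel B σ τ) : Rel B τ σ := fun b hb => (h b hb).symm
theorem Rel.trans {σ τ ρ : Gpt k A} (h : Rel B σ τ) (h' : Rel B τ ρ) : Rel B σ ρ :=
  fun b hb => (h b hb).trans (h' b hb)

theorem ev2_congr {σ σ' τ τ' : Gpt k A} (h : Rel B σ σ') (h' : Rel B τ τ') (z : B ⊗[k] B) :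
    ev2 σ τ (TensorProduct.map B.val.toLinearMap B.val.toLinearMap z) =
      ev2 σ' τ' (TensorProduct.map B.val.toLinearMap B.val.toLinearMap z) := by
  induction z with
  | zero => simp
  | add x y hx hy => simp only [map_add, hx, hy]
  | tmul x y =>
    simp only [TensorProduct.map_tmul, ev2_tmul, AlgHom.toLinearMap_apply, Subalgebra.coe_val]
    rw [h _ x.2, h' _ y.2]

theorem Rel.mul (hB : IsHopfSub B) {σ σ' τ τ' : Gpt k A} (h : Rel B σ σ') (h' : Rel B τ τ') :
    Rel B (σ * τ) (σ' * τ') := fun b hb => by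
  obtain ⟨z, hz⟩ := hB.1 b hb
  rw [mul_pt_apply, mul_pt_apply, show Coalgebra.comul (R := k) b = _ from hz.symm]
  exact ev2_congr h h' z

theorem Rel.inv_mul (hB : IsHopfSub B) {σ τ : Gpt k A} (h : Rel B σ τ) : Rel B (ptInv τ * σ) 1 := by
  have h1 := (Rel.refl (ptInv τ)).mul hB h
  rwa [ptInv_mul] at h1

theorem rel_one_of_idem (hB : IsHopfSub B) {σ : Gpt k A} (h : Rel B σ (σ * σ)) : Rel B σ 1 := by
  have h1 := (Rel.refl (ptInv σ)).mul hB h
  rw [ptInv_mul, ← _root_.mul_assoc, ptInv_mul, one_mul] at h1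
  exact h1.symm

theorem rel_sup {y : A} {σ τ : Gpt k A} (h : Rel B σ τ) (hy : σ.ofConv y = τ.ofConv y) :
    Rel (B ⊔ Algebra.adjoin k {y}) σ τ := by
  have hle : B ⊔ Algebra.adjoin k {y} ≤ AlgHom.equalizer σ.ofConv τ.ofConv :=
    sup_le (fun b hb => h b hb) (Algebra.adjoin_le (Set.singleton_subset_iff.mpr hy))
  exact fun b hb => hle hb

theorem counit_of_delta {y : A} (hy0 : Coalgebra.counit (R := k) y = 0) {z : A ⊗[k] A}
    (hz : Coalgebra.comul (R := k) y = y ⊗ₜ[k] (1 : A) + (1 : A) ⊗ₜ[k] y + z) (σ τ : Gpt k A) :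
    (σ * τ).ofConv y = σ.ofConv y + τ.ofConv y + ev2 σ τ z := by
  rw [mul_pt_apply, hz]
  simp

theorem isHopfSub_adjoin_extend (hB : IsHopfSub B) {y : A} (hy0 : Coalgebra.counit (R := k) y = 0) {z : B ⊗[k] B}
    (hz : Coalgebra.comul (R := k) y = y ⊗ₜ[k] (1 : A) + (1 : A) ⊗ₜ[k] y +
      TensorProduct.map B.val.toLinearMap B.val.toLinearMap z) :
    IsHopfSub (B ⊔ Algebra.adjoin k {y}) := by
  let B' := B ⊔ Algebra.adjoin k {y}
  let m := Algebra.TensorProduct.map B'.val B'.val
  have hyB : y ∈ B' := le_sup_right (a := B) (Algebra.subset_adjoin rfl)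
  have hincl : ∀ w : B ⊗[k] B, TensorProduct.map B.val.toLinearMap B.val.toLinearMap w ∈ m.range := fun w => by
    induction w with
    | zero => simp
    | add a b ha hb => rw [map_add]; exact add_mem ha hb
    | tmul a b => exact ⟨⟨a, le_sup_left (a := B) a.2⟩ ⊗ₜ ⟨b, le_sup_left (a := B) b.2⟩, rfl⟩
  refine ⟨fun b hb => ?_, fun b hb => ?_⟩
  · have h1 : B' ≤ m.range.comap (Bialgebra.comulAlgHom k A) := by
      refine sup_le (fun x hx => ?_) (Algebra.adjoin_le (Set.singleton_subset_iff.mpr ?_))
      · obtain ⟨w, hw⟩ := hB.1 x hx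
        show Coalgebra.comul (R := k) x ∈ m.range
        rw [show Coalgebra.comul (R := k) x = _ from hw.symm]
        exact hincl w
      · show Coalgebra.comul (R := k) y ∈ m.range
        rw [hz]
        exact add_mem (add_mem ⟨⟨y, hyB⟩ ⊗ₜ 1, rfl⟩ ⟨1 ⊗ₜ ⟨y, hyB⟩, rfl⟩) (hincl z)
    obtain ⟨w, hw⟩ := h1 hb
    exact ⟨w, hw⟩
  · have h1 : B' ≤ B'.comap (HopfAlgebra.antipodeAlgHom k A) := by
      refine sup_le (fun x hx => le_sup_left (a := B) (hB.2 x hx)) (Algebra.adjoin_le (Set.singleton_subset_iff.mpr ?_))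
      show HopfAlgebra.antipode k y ∈ B'
      have h := HopfAlgebra.mul_antipode_rTensor_comul_apply (R := k) y
      rw [hz, hy0, map_zero, map_add, map_add, map_add, map_add] at h
      simp only [LinearMap.rTensor_tmul, LinearMap.mul'_apply, mul_one, HopfAlgebra.antipode_one, one_mul] at h
      have hw : ∀ w : B ⊗[k] B, LinearMap.mul' k A ((HopfAlgebra.antipode k).rTensor A
          (TensorProduct.map B.val.toLinearMap B.val.toLinearMap w)) ∈ B := fun w => by
        induction w with
        | zero => simp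
        | add a b ha hb => simp only [map_add]; exact add_mem ha hb
        | tmul a b =>
          simp only [TensorProduct.map_tmul, LinearMap.rTensor_tmul, LinearMap.mul'_apply, AlgHom.toLinearMap_apply]
          exact mul_mem (hB.2 _ a.2) b.2
      rw [add_assoc, ← eq_neg_iff_add_eq_zero] at h
      rw [h]
      exact neg_mem (add_mem hyB (le_sup_left (a := B) (hw z)))
    exact h1 hb

variable [IsAlgClosed k]

theorem isNilpotent_of_points {C : Type u} [CommRing C] [Algebra k C] [Algebra.FiniteType k C] (f : C)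
    (h : ∀ χ : C →ₐ[k] k, χ f = 0) : IsNilpotent f := by
  by_contra hf
  haveI : Algebra.FiniteType k (Localization.Away f) := by
    haveI : Algebra.FiniteType C (Localization.Away f) :=
      IsLocalization.finiteType_of_monoid_fg (Submonoid.powers f) _
    exact Algebra.FiniteType.trans (S := C) inferInstance inferInstance
  haveI : Nontrivial (Localization.Away f) := by
    refine not_subsingleton_iff_nontrivial.1 fun hs => ?_
    obtain ⟨n, hn⟩ := (IsLocalization.subsingleton_iff (M := Submonoid.powers f) (S := Localization.Away f)).1 hs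
    exact hf ⟨n, hn⟩
  obtain ⟨χ⟩ := HopfPts.exists_point_of_finiteType (k := k) (Localization.Away f)
  exact ((IsLocalization.Away.algebraMap_isUnit (S := Localization.Away f) f).map χ).ne_zero
    (h (χ.comp (IsScalarTower.toAlgHom k C (Localization.Away f))))

variable {p : ℕ} [hp : Fact p.Prime] [CharP k p]

/-- An additive polynomial with a given finite group of roots. -/
theorem exists_kernel_poly (S : Finset k) :
    ∃ ψ : k → k, AddP p ψ ∧ ψ ≠ (fun _ => 0) ∧ ∀ a, ψ a = 0 ↔ a ∈ AddSubmonoid.closure (S : Set k) := by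
  classical
  induction S using Finset.induction with
  | empty =>
    refine ⟨fun a => a, addP_id, fun e => one_ne_zero (congrFun e 1), fun a => ?_⟩
    simp
  | insert d S _ ih =>
    obtain ⟨ψ, hψ, hne, hker⟩ := ih
    let ψ' : k → k := fun a => ψ a ^ p + -(ψ d ^ (p - 1)) * ψ a
    have hψ' : AddP p ψ' := by
      have h1 := addP_pow hψ 1
      rw [pow_one] at h1
      exact h1.add (addP_smul hψ _)
    have hp1 : p - 1 + 1 = p := Nat.sub_add_cancel hp.out.one_le
    refine ⟨ψ', hψ', fun e => ?_, fun a => ⟨fun ha => ?_, fun ha => ?_⟩⟩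
    · obtain ⟨t, ht⟩ : ∃ t : k, t ^ p - t - 1 = 0 := by
        obtain ⟨t, ht⟩ := IsAlgClosed.exists_root (Polynomial.X ^ p - Polynomial.X - Polynomial.C (1 : k)) (by
          rw [Polynomial.degree_sub_C, Polynomial.degree_sub_eq_left_of_degree_lt, Polynomial.degree_X_pow]
          · exact_mod_cast hp.out.ne_zero
          · rw [Polynomial.degree_X_pow, Polynomial.degree_X]; exact_mod_cast hp.out.one_lt
          · rw [Polynomial.degree_sub_eq_left_of_degree_lt, Polynomial.degree_X_pow]
            · exact_mod_cast hp.out.pos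
            · rw [Polynomial.degree_X_pow, Polynomial.degree_X]; exact_mod_cast hp.out.one_lt)
        exact ⟨t, by simpa using ht⟩
      by_cases hd : ψ d = 0
      · obtain ⟨a, ha⟩ := addP_surjective hψ hne 1
        have := congrFun e a
        simp [ψ', ha, hd, zero_pow (Nat.sub_ne_zero_of_lt hp.out.one_lt)] at this
      · obtain ⟨a, ha⟩ := addP_surjective hψ hne (t * ψ d)
        have h2 := congrFun e a
        simp only [ψ', ha] at h2
        have e1 : ψ d ^ p = ψ d ^ (p - 1) * ψ d := by rw [← pow_succ, hp1]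
        rw [mul_pow] at h2
        refine hd ((pow_eq_zero_iff hp.out.ne_zero).mp ?_)
        linear_combination h2 - ψ d ^ p * ht - t * e1
    · have hins : AddSubmonoid.closure (S : Set k) ≤ AddSubmonoid.closure (insert d S : Set k) :=
        AddSubmonoid.closure_mono (Set.subset_insert _ _)
      rw [Finset.coe_insert]
      by_cases hd : ψ d = 0
      · refine hins ((hker a).mp ?_)
        simpa [ψ', hd, zero_pow (Nat.sub_ne_zero_of_lt hp.out.one_lt), pow_eq_zero_iff hp.out.ne_zero] using ha
      · have ht : (ψ a / ψ d) ^ p = ψ a / ψ d := by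
          simp only [ψ'] at ha
          rw [div_pow, div_eq_div_iff (pow_ne_zero _ hd) hd]
          have e1 : ψ d ^ p = ψ d ^ (p - 1) * ψ d := by rw [← pow_succ, hp1]
          linear_combination ψ d * ha - ψ a * e1
        rw [← Subfield.mem_bot_iff_pow_eq_self, ← ZMod.fieldRange_castHom_eq_bot p, RingHom.mem_fieldRange] at ht
        obtain ⟨n, hn⟩ := ht
        have hn' : (n.val : k) = ψ a / ψ d := by
          rw [← hn, ZMod.castHom_apply, ← ZMod.natCast_val]
        have hmem : a - n.val • d ∈ AddSubmonoid.closure (S : Set k) := by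
          refine (hker _).mp ?_
          show hψ.hom (a - n.val • d) = 0
          rw [map_sub, map_nsmul, nsmul_eq_mul]
          show ψ a - (n.val : k) * ψ d = 0
          rw [hn', div_mul_cancel₀ _ hd, sub_self]
        rw [← sub_add_cancel a (n.val • d)]
        exact add_mem (hins hmem) (AddSubmonoid.nsmul_mem _ (AddSubmonoid.subset_closure (Set.mem_insert d _)) _)
    · rw [Finset.coe_insert] at ha
      induction ha using AddSubmonoid.closure_induction with
      | mem x hx =>
        rcases hx with rfl | hx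
        · have e1 : ψ x ^ p = ψ x ^ (p - 1) * ψ x := by rw [← pow_succ, hp1]
          simp only [ψ']
          linear_combination e1
        · simp [ψ', (hker x).mpr (AddSubmonoid.subset_closure hx), zero_pow hp.out.ne_zero]
      | zero => exact addP_zero_apply hψ'
      | add x y _ _ hx hy => rw [hψ'.map_add, hx, hy, add_zero]

/-- A group with points of `p`-power order is unipotent. -/
theorem fil_exhaustive [Algebra.FiniteType k A] [IsReduced A] (N : ℕ) (h : ∀ σ : Gpt k A, σ ^ p ^ N = 1) (a : A) :
    ∃ n, a ∈ fil k A A n := by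
  refine isUnipotent_iff_fil.mp ?_ a
  intro V _ _ _ hfin hnt
  refine UnipH7.fixedPts_ne_bot_of_points fun g => ?_
  refine ⟨p ^ N, ?_⟩
  haveI := hp
  have hchar : CharP (Module.End k V) p :=
    charP_of_injective_ringHom (algebraMap k (Module.End k V)).injective p
  have hact : ∀ (m : ℕ) (v : V), ((HopfRep.Comod.act k A V g) ^ m) v =
      (toConv g.toLinearMap : WithConv (A →ₗ[k] k)) ^ m • v := by
    intro m
    induction m with
    | zero => intro v; rw [pow_zero, pow_zero, one_smul]; rfl
    | succ m ih =>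
      intro v
      rw [pow_succ, pow_succ, Module.End.mul_apply, ih, mul_smul]
      rfl
  have h1 : (HopfRep.Comod.act k A V g) ^ p ^ N = 1 := LinearMap.ext fun v => by
    rw [hact, show (toConv g.toLinearMap : WithConv (A →ₗ[k] k)) =
      toConv (toConv g : Gpt k A).ofConv.toLinearMap from rfl, ← AlgHom.toLinearMap_convPow, h,
      AlgHom.toLinearMap_convOne, one_smul]
    rfl
  show ((HopfRep.Comod.act k A V g : Module.End k V) - 1) ^ p ^ N = 0
  rw [sub_pow_char_pow_of_commute _ _ (Commute.one_right _), h1, one_pow, sub_self]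

end Groth.Agent.UnipIsogLib
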