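import Groth.Agent.UnipIsogLib.Tower
import Groth.Agent.TorusField.Bridge
import Mathlib

/-! Morphisms to an affine group through ring homomorphisms, and their values at rational points. -/

set_option autoImplicit false
set_option backward.isDefEq.respectTransparency false
universe u

open CategoryTheory CategoryTheory.Limits AlgebraicGeometry MonObj MonoidalCategory CartesianMonoidalCategory WithConv
open Groth.Agent.WittHomLib

noncomputable section

namespace Groth.Agent.UnipIsogLib

variable {k : Type u} [Field k]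

local notation "B" => Spec (CommRingCat.of k)

/-- The value of a global function at a rational point. -/
def th {T : Over B} (σ : 𝟙_ (Over B) ⟶ T) : Γ(T.left, ⊤) →+* k :=
  (Scheme.ΓSpecIso (CommRingCat.of k)).hom.hom.comp σ.left.appTop.hom

theorem th_ev {T : Over B} (σ : 𝟙_ (Over B) ⟶ T) (c : k) : th σ (ev T c) = c := by
  show (Scheme.ΓSpecIso (CommRingCat.of k)).hom (σ.left.appTop (ev T c)) = c
  rw [appTop_ev]
  show (Scheme.ΓSpecIso (CommRingCat.of k)).hom ((𝟙 (Spec (CommRingCat.of k)) : Spec (CommRingCat.of k) ⟶ _).appTop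
    ((Scheme.ΓSpecIso (CommRingCat.of k)).inv c)) = c
  rw [Scheme.Hom.id_appTop]
  exact (Scheme.ΓSpecIso (CommRingCat.of k)).commRingCatIsoToRingEquiv.apply_symm_apply c

theorem th_comp {T T' : Over B} (σ : 𝟙_ (Over B) ⟶ T) (f : T ⟶ T') (u : Γ(T'.left, ⊤)) :
    th (σ ≫ f) u = th σ (f.left.appTop u) := by
  show (Scheme.ΓSpecIso (CommRingCat.of k)).hom ((σ.left ≫ f.left).appTop u) = _
  rw [Scheme.Hom.comp_appTop]
  rfl

variable {A : Type u} [CommRing A] [Algebra k A]

/-- The morphism to an affine scheme given by a ring map compatible with the constants. -/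
def toAff {T : Over B} (α : A →+* Γ(T.left, ⊤)) (hα : α.comp (algebraMap k A) = ev T) :
    T ⟶ (Spec (CommRingCat.of A)).asOver B :=
  Over.homMk (T.left.toSpecΓ ≫ Spec.map (CommRingCat.ofHom α)) (by
    show (T.left.toSpecΓ ≫ Spec.map (CommRingCat.ofHom α)) ≫ Spec.map (CommRingCat.ofHom (algebraMap k A)) = T.hom
    rw [Category.assoc, ← Spec.map_comp, ← CommRingCat.ofHom_comp, hα,
      show CommRingCat.ofHom (ev T) = (Scheme.ΓSpecIso (CommRingCat.of k)).inv ≫ T.hom.appTop from rfl,
      Spec.map_comp, ← Category.assoc, ← Scheme.toSpecΓ_naturality, Category.assoc,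
      ← SpecMap_ΓSpecIso_hom, ← Spec.map_comp, Iso.inv_hom_id, Spec.map_id, Category.comp_id])

theorem comp_toAff {T : Over B} (α : A →+* Γ(T.left, ⊤)) (hα : α.comp (algebraMap k A) = ev T)
    (σ : 𝟙_ (Over B) ⟶ T) :
    (σ ≫ toAff α hα).left = Spec.map (CommRingCat.ofHom ((th σ).comp α)) := by
  show σ.left ≫ T.left.toSpecΓ ≫ Spec.map (CommRingCat.ofHom α) = _
  rw [← Category.assoc, Scheme.toSpecΓ_naturality, Category.assoc]
  show (Spec (CommRingCat.of k)).toSpecΓ ≫ _ = _
  rw [← SpecMap_ΓSpecIso_hom, ← Spec.map_comp, ← Spec.map_comp]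
  rfl

end Groth.Agent.UnipIsogLib
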